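import Groth.Agent.CurvLib.Finite0
import Groth.Agent.AmpleLib.Gen
import Groth.Agent.KFlatLib.PerfectPull
import Groth.Agent.KFlatLib.FPFlatFree

/-!
# Euler characteristics of modules with finite support, as sums over stalks
-/

universe u
open CategoryTheory CategoryTheory.Limits AlgebraicGeometry TopologicalSpace Opposite
open scoped TensorProduct

namespace CurvLib

open QCohLib DevissLib

variable {k : Type u} [Field k] {X : Scheme.{u}} [X.Over (Spec (CommRingCat.of k))]

/-- Global sections as a vector space over the base field. -/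
noncomputable abbrev secModule (M : X.Modules) : Module k Γ(M, ⊤) :=
  Module.compHom Γ(M, ⊤)
    (show k →+* Γ(X, ⊤) from Coh.toGlobal (X ↘ Spec (CommRingCat.of k)))

/-- Stalks as vector spaces over the base field. -/
noncomputable abbrev stalkModule (M : X.Modules) (x : X) : Module k ((St x).obj M) :=
  Module.compHom ((St x).obj M) (Curv2.stalkMap k X x)

/-- The dimension of a stalk over the base field. -/
noncomputable def stalkDim (k : Type u) [Field k] {X : Scheme.{u}} [X.Over (Spec (CommRingCat.of k))]
    (M : X.Modules) (x : X) : ℕ :=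
  letI := stalkModule (k := k) M x
  Module.finrank k ((St x).obj M)

/-- `H⁰` is the space of global sections. -/
noncomputable def hhZeroEquiv (M : X.Modules) :
    letI := secModule (k := k) M
    Coh.HH X M 0 ≃ₗ[k] Γ(M, ⊤) :=
  letI := secModule (k := k) M
  { (QCohLib.hEquiv ((toAbF X).obj M) 0).trans (QCohLib.h0 (U := (⊤ : Opens X.toTopCat))) with
    map_smul' := fun c x => by
      change QCohLib.h0 (QCohLib.hEquiv ((toAbF X).obj M) 0 (Sheaf.H.map
        (Coh.smulAb M (Coh.toGlobal (X ↘ Spec (CommRingCat.of k)) c)) 0 x)) = _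
      rw [QCohLib.hEquiv_map, QCohLib.h0_comp]
      change (Coh.smulAb M _).hom.app (op ⊤) _ = _
      rw [Coh.smulAb_app]
      refine congrArg (fun r : Γ(X, ⊤) => r • (show Γ(M, ⊤) from
        QCohLib.h0 (QCohLib.hEquiv ((toAbF X).obj M) 0 x))) ?_
      exact congr($(X.ringCatSheaf.obj.map_id (op ⊤)) _) }

/-- The germ of a global section, linearly over the base field. -/
noncomputable def germLin (M : X.Modules) (x : X) :
    letI := secModule (k := k) M
    letI := stalkModule (k := k) M x
    Γ(M, ⊤) →ₗ[k] (St x).obj M :=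
  letI := secModule (k := k) M
  letI := stalkModule (k := k) M x
  { toFun := fun s => gm M x (show x ∈ (⊤ : X.Opens) from trivial) s
    map_add' := fun s t => map_add (M.presheaf.germ ⊤ x trivial).hom s t
    map_smul' := fun c s => gm_smul M x (show x ∈ (⊤ : X.Opens) from trivial)
      (Coh.toGlobal (X ↘ Spec (CommRingCat.of k)) c) s }

variable {T : Set X}

/-- With finite support the global sections are the product of the stalks. -/
noncomputable def secStalksEquiv (M : X.Modules) (hT : T.Finite)
    (hTc : ∀ x ∈ T, IsClosed ({x} : Set X)) (hM : CohB1.support M ⊆ T) :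
    letI := secModule (k := k) M
    letI := fun x : T => stalkModule (k := k) M x.1
    Γ(M, ⊤) ≃ₗ[k] ∀ x : T, (St x.1).obj M :=
  letI := secModule (k := k) M
  letI := fun x : T => stalkModule (k := k) M x.1
  LinearEquiv.ofBijective (LinearMap.pi fun x : T => germLin M x.1)
    ⟨fun s t h => by
      refine TopCat.Presheaf.section_ext ((toAbF X).obj M : TopCat.Sheaf AddCommGrpCat X.toTopCat) ⊤ s t
        fun x hx => ?_
      by_cases hxT : x ∈ T
      · exact congr_fun h ⟨x, hxT⟩
      · have : Subsingleton (M.presheaf.stalk x) := not_not.mp fun h => hxT (hM h)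
        exact @Subsingleton.elim _ this _ _,
    fun a => by
      classical
      haveI : Fintype T := hT.fintype
      choose s hs using fun x : T =>
        surjective_germ_of_finite_support M ((Set.finite_singleton x.1).union hT)
          (fun y hy => hy.elim (fun h => h ▸ hTc x.1 x.2) (hTc y))
          (hM.trans Set.subset_union_right) x.1 (a x)
      have hsep : ∀ x : T, ∃ t : Γ(M, ⊤), ∀ y : T,
          gm M y.1 (show y.1 ∈ (⊤ : X.Opens) from trivial) t =
            if h : y = x then (h ▸ a x) else 0 := by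
        intro x
        let D : X.Opens := ⟨(⋃ y ∈ T \ {x.1}, ({y} : Set X))ᶜ,
          (hT.sdiff.isClosed_biUnion fun y hy => hTc y hy.1).isOpen_compl⟩
        let C : X.Opens := ⟨({x.1} : Set X)ᶜ, (hTc x.1 x.2).isOpen_compl⟩
        let W : ULift.{u} Bool → X.Opens := fun b => if b.down then D else C
        let sf : ∀ b, Γ(M, W b) := fun b => match b with
          | ⟨true⟩ => M.presheaf.map (homOfLE (le_top : D ≤ ⊤)).op (s x)
          | ⟨false⟩ => 0
        have hzero : ∀ (V : X.Opens) (_ : ∀ y ∈ V, y ∉ T) (t : Γ(M, V)), t = 0 := fun V hV t => by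
          refine TopCat.Presheaf.section_ext ((toAbF X).obj M : TopCat.Sheaf AddCommGrpCat X.toTopCat)
            V _ _ fun y hy => ?_
          have : Subsingleton (M.presheaf.stalk y) := not_not.mp fun h => hV y hy (hM h)
          exact @Subsingleton.elim _ this _ _
        have hdisj : ∀ y ∈ D ⊓ C, y ∉ T := fun y hy hyT =>
          hy.1 (Set.mem_biUnion (show y ∈ T \ {x.1} from ⟨hyT, hy.2⟩) rfl)
        have hcomp : TopCat.Presheaf.IsCompatible M.presheaf W sf := by
          rintro ⟨_ | _⟩ ⟨_ | _⟩
          · rfl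
          · exact (hzero (W ⟨false⟩ ⊓ W ⟨true⟩) (fun y hy => hdisj y ⟨hy.2, hy.1⟩) _).trans
              (hzero (W ⟨false⟩ ⊓ W ⟨true⟩) (fun y hy => hdisj y ⟨hy.2, hy.1⟩) _).symm
          · exact (hzero (W ⟨true⟩ ⊓ W ⟨false⟩) hdisj _).trans
              (hzero (W ⟨true⟩ ⊓ W ⟨false⟩) hdisj _).symm
          · rfl
        have hxD : x.1 ∈ D := fun h => by
          obtain ⟨y, hy, e⟩ := Set.mem_iUnion₂.mp h
          exact hy.2 (e.symm)
        have hcov : (⊤ : X.Opens) ≤ iSup W := fun y _ => by
          by_cases hy : y = x.1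
          · subst hy
            exact Opens.mem_iSup.mpr ⟨⟨true⟩, hxD⟩
          · exact Opens.mem_iSup.mpr ⟨⟨false⟩, hy⟩
        obtain ⟨t, ht, -⟩ := TopCat.Sheaf.existsUnique_gluing'
          (F := (⟨M.presheaf, M.isSheaf⟩ : TopCat.Sheaf AddCommGrpCat X.toTopCat))
          W ⊤ (fun b => homOfLE le_top) hcov sf hcomp
        refine ⟨t, fun y => ?_⟩
        by_cases hy : y = x
        · subst hy
          rw [dif_pos rfl, ← hs y, ← gm_map M (le_top : D ≤ ⊤) y.1 hxD t,
            ← gm_map M (le_top : D ≤ ⊤) y.1 hxD (s y)]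
          exact congrArg (gm M y.1 _) (ht ⟨true⟩)
        · have hyC : y.1 ∈ C := fun h => hy (Subtype.ext h)
          rw [dif_neg hy, ← gm_map M (le_top : C ≤ ⊤) y.1 hyC t]
          exact (congrArg (gm M y.1 hyC) (ht ⟨false⟩)).trans (gm_zero M y.1 hyC)
      choose t ht using hsep
      refine ⟨∑ x : T, t x, funext fun y => ?_⟩
      change germLin (k := k) M y.1 (∑ x : T, t x) = a y
      rw [map_sum, Finset.sum_eq_single y (fun x _ hxy => ?_) fun h => absurd (Finset.mem_univ y) h]
      · exact (ht y y).trans (dif_pos rfl)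
      · exact (ht x y).trans (dif_neg fun h => hxy h.symm)⟩

/-- Stalks of modules with finite cohomology and finite support are finite dimensional. -/
theorem finite_stalk (M : X.Modules) (hT : T.Finite) (hTc : ∀ x ∈ T, IsClosed ({x} : Set X))
    (hM : CohB1.support M ⊆ T) [Module.Finite k (Coh.HH X M 0)] (x : X) :
    letI := stalkModule (k := k) M x
    Module.Finite k ((St x).obj M) := by
  letI := secModule (k := k) M
  letI := stalkModule (k := k) M x
  haveI : Module.Finite k Γ(M, ⊤) := Module.Finite.equiv (hhZeroEquiv (k := k) M)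
  exact Module.Finite.of_surjective (germLin (k := k) M x)
    fun a => surjective_germ_of_finite_support M hT hTc hM x a

/-- Dimension of `H⁰` as the sum of the dimensions of the stalks. -/
theorem finrank_h0_eq_sum (M : X.Modules) (hT : T.Finite) (hTc : ∀ x ∈ T, IsClosed ({x} : Set X))
    (hM : CohB1.support M ⊆ T)
    (hfin : ∀ x : X, letI := stalkModule (k := k) M x; Module.Finite k ((St x).obj M)) :
    Module.finrank k (Coh.HH X M 0) = ∑ x ∈ hT.toFinset, stalkDim k M x := by
  haveI : Fintype T := hT.fintype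
  letI := secModule (k := k) M
  letI := fun x : T => stalkModule (k := k) M x.1
  haveI := fun x : T => hfin x.1
  rw [((hhZeroEquiv (k := k) M).trans (secStalksEquiv M hT hTc hM)).finrank_eq,
    Module.finrank_pi_fintype]
  exact (Finset.sum_subtype hT.toFinset (fun _ => hT.mem_toFinset) (stalkDim k M)).symm

/-- Euler characteristic of a module with finite support. -/
theorem euler_eq_sum_stalks [IsProper (X ↘ Spec (CommRingCat.of k))] (M : X.Modules)
    (hT : T.Finite) (hTcl : IsClosed T) (hTd : topologicalKrullDim T ≤ 0)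
    (hM : CohB1.support M ⊆ T)
    (hfin : ∀ x : X, letI := stalkModule (k := k) M x; Module.Finite k ((St x).obj M)) :
    Curv2.euler k X M = ((∑ x ∈ hT.toFinset, stalkDim k M x : ℕ) : ℤ) := by
  haveI := isNoetherian k (X := X)
  rw [euler_eq_finrank fun n hn =>
    subsingleton_HH_of_support M hTcl hM (d := 0) (by exact_mod_cast hTd) n (by omega),
    finrank_h0_eq_sum M hT (finite_isClosed_of_dim_le_zero hTcl hTd).2 hM hfin]

/-! ### Stalks of finite locally free modules -/

theorem nonempty_stalk_pi_of_locFree {n : ℕ} {E : X.Modules} (hE : FlatMod.IsFinLocFreeOfRank n E)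
    (x : X) : Nonempty ((St x).obj E ≃ₗ[X.presheaf.stalk x] (Fin n → X.presheaf.stalk x)) := by
  obtain ⟨U, hU, ⟨e⟩⟩ := hE x
  obtain ⟨p, rfl⟩ : ∃ p : (U : Scheme.{u}), U.ι p = x := ⟨⟨x, hU⟩, rfl⟩
  let R := X.presheaf.stalk (U.ι p)
  let R' := (U : Scheme.{u}).presheaf.stalk p
  letI : Algebra R R' := (U.ι.stalkMap p).hom.toAlgebra
  let φ : R ≃ₗ[R] R' := LinearEquiv.ofBijective (Algebra.linearMap R R')
    (ConcreteCategory.bijective_of_isIso (U.ι.stalkMap p))
  let N := (St (U.ι p)).obj E
  let e1 := ((DerSch.stalkFunctor (U : Scheme.{u}) p).mapIso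
      ((Scheme.Modules.restrictFunctorIsoPullback U.ι).app E).symm ≪≫
    (DerSch.stalkFunctor (U : Scheme.{u}) p).mapIso e ≪≫ KFlatLib.stalkFreeModIso _ p n).toLinearEquiv
  let e2 : (R' ⊗[R] N) ≃ₗ[R'] (Fin n → R') :=
    (((KFlatLib.stalkPullIso U.ι p).app E).toLinearEquiv.symm).trans e1
  exact ⟨(TensorProduct.lid R N).symm ≪≫ₗ TensorProduct.congr φ (LinearEquiv.refl R N) ≪≫ₗ
    e2.restrictScalars R ≪≫ₗ LinearEquiv.piCongrRight fun _ => φ.symm⟩

/-- The stalk of the tensor product with a locally free module of rank `n`. -/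
theorem nonempty_stalk_tensor_locFree {n : ℕ} {E : X.Modules}
    (hE : FlatMod.IsFinLocFreeOfRank n E) (F : X.Modules) (x : X) :
    Nonempty ((St x).obj (CohB1.tensorMod F E) ≃ₗ[X.presheaf.stalk x] (Fin n → (St x).obj F)) := by
  obtain ⟨e⟩ := nonempty_stalk_pi_of_locFree hE x
  let R := X.presheaf.stalk x
  exact ⟨(LinearEquiv.ofBijective (KFlatLib.stalkTensorLin F E x)
      (KFlatLib.stalkTensorLin_bijective F E x)).symm ≪≫ₗ
    TensorProduct.congr (LinearEquiv.refl R _) e ≪≫ₗ
    TensorProduct.piScalarRight R R ((St x).obj F) (Fin n)⟩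

variable [IsProper (X ↘ Spec (CommRingCat.of k))]

/-- Tensoring a zero-dimensional module with a locally free module of rank `n`. -/
theorem euler_tensor_locFree_of_dim_zero {F : X.Modules} (hF : Coh.IsCoh F)
    (hd : topologicalKrullDim (CohB1.support F) ≤ 0) {n : ℕ} {E : X.Modules}
    (hE : FlatMod.IsFinLocFreeOfRank n E) :
    Curv2.euler k X (CohB1.tensorMod F E) = n * Curv2.euler k X F := by
  obtain ⟨hT, hTc⟩ := finite_support_data k hF hd
  have hcl := isClosed_support F hF.2
  haveI := finite_HH (k := k) hF 0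
  have hfinF := fun x => finite_stalk (k := k) F hT hTc subset_rfl x
  have e : ∀ x, ∃ e : (St x).obj (CohB1.tensorMod F E) ≃ₗ[X.presheaf.stalk x] (Fin n → (St x).obj F),
      True := fun x => ⟨(nonempty_stalk_tensor_locFree hE F x).some, trivial⟩
  have hk : ∀ x,
      letI := stalkModule (k := k) F x
      letI := stalkModule (k := k) (CohB1.tensorMod F E) x
      Nonempty ((St x).obj (CohB1.tensorMod F E) ≃ₗ[k] (Fin n → (St x).obj F)) := fun x => by
    letI := stalkModule (k := k) F x
    letI := stalkModule (k := k) (CohB1.tensorMod F E) x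
    obtain ⟨e, -⟩ := e x
    exact ⟨{ e.toAddEquiv with map_smul' := fun c z => e.map_smul (Curv2.stalkMap k X x c) z }⟩
  have hsupp : CohB1.support (CohB1.tensorMod F E) ⊆ CohB1.support F := fun x hx => by
    by_contra h
    obtain ⟨e, -⟩ := e x
    have hs : Subsingleton ((St x).obj F) := not_not.mp h
    exact hx (e.toEquiv.subsingleton_congr.mpr inferInstance)
  have hfin : ∀ x, letI := stalkModule (k := k) (CohB1.tensorMod F E) x
      Module.Finite k ((St x).obj (CohB1.tensorMod F E)) := fun x => by
    letI := stalkModule (k := k) F x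
    letI := stalkModule (k := k) (CohB1.tensorMod F E) x
    haveI := hfinF x
    obtain ⟨e⟩ := hk x
    exact Module.Finite.equiv e.symm
  rw [euler_eq_sum_stalks _ hT hcl hd hsupp hfin, euler_eq_sum_stalks F hT hcl hd subset_rfl hfinF]
  push_cast
  rw [Finset.mul_sum]
  refine Finset.sum_congr rfl fun x _ => ?_
  letI := stalkModule (k := k) F x
  letI := stalkModule (k := k) (CohB1.tensorMod F E) x
  haveI := hfinF x
  obtain ⟨e⟩ := hk x
  have : stalkDim k (CohB1.tensorMod F E) x = n * stalkDim k F x := by
    unfold stalkDim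
    rw [e.finrank_eq, Module.finrank_pi_fintype]
    simp
  exact_mod_cast this

end CurvLib
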