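import Groth.Agent.CurvLib.Line
import Groth.Agent.CurvLib.StalkSum
import Groth.Agent.KFlatLib.FreeModel
import Groth.Agent.KFlatLib.QCohTensor
import Groth.Agent.QCohLib.FTCrit

/-!
# Euler characteristic of tensor products with locally free modules on curves
-/

universe u
open CategoryTheory CategoryTheory.Limits AlgebraicGeometry TopologicalSpace Opposite
open scoped TensorProduct

namespace CurvLib

open QCohLib DevissLib

variable {X : Scheme.{u}}

/-- `freeMod (n+1) ≅ O ⊞ freeMod n`. -/
noncomputable def freeModSucc (X : Scheme.{u}) (n : ℕ) :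
    FlatMod.freeMod X (n + 1) ≅ Coh.structureModule X ⊞ FlatMod.freeMod X n where
  hom := Sigma.desc fun i => Fin.cases (motive := fun _ => Coh.structureModule X ⟶
      Coh.structureModule X ⊞ FlatMod.freeMod X n) biprod.inl
    (fun j => Sigma.ι (fun _ : Fin n => Coh.structureModule X) j ≫ biprod.inr) i
  inv := biprod.desc (Sigma.ι (fun _ : Fin (n + 1) => Coh.structureModule X) 0)
    (Sigma.desc fun j => Sigma.ι (fun _ : Fin (n + 1) => Coh.structureModule X) j.succ)
  hom_inv_id := Sigma.hom_ext _ _ fun i => by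
    refine Fin.cases ?_ (fun j => ?_) i
    · rw [Sigma.ι_desc_assoc, Fin.cases_zero, biprod.inl_desc, Category.comp_id]
    · rw [Sigma.ι_desc_assoc, Fin.cases_succ, Category.assoc, biprod.inr_desc, Sigma.ι_desc,
        Category.comp_id]
  inv_hom_id := by
    apply biprod.hom_ext'
    · rw [biprod.inl_desc_assoc, Sigma.ι_desc, Fin.cases_zero, Category.comp_id]
    · refine Sigma.hom_ext _ _ fun j => ?_
      rw [biprod.inr_desc_assoc, Sigma.ι_desc_assoc, Sigma.ι_desc, Fin.cases_succ, Category.comp_id]

theorem isFT_freeMod (X : Scheme.{u}) (n : ℕ) : CohB1.IsFT (FlatMod.freeMod X n) := by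
  induction n with
  | zero =>
    refine QCohLib.isFT_of_isZero ?_
    rw [IsZero.iff_id_eq_zero]
    exact Sigma.hom_ext _ _ fun i => i.elim0
  | succ n ih =>
    exact QCohLib.isFT_of_iso (freeModSucc X n).symm
      (QCohLib.isFT_biprod (DevissLib.isCoh_structureModule X).2 ih)

theorem isQCoh_freeMod (X : Scheme.{u}) (n : ℕ) : Coh.IsQCoh (FlatMod.freeMod X n) := by
  induction n with
  | zero =>
    refine QCohLib.isQCoh_of_isZero ?_
    rw [IsZero.iff_id_eq_zero]
    exact Sigma.hom_ext _ _ fun i => i.elim0
  | succ n ih =>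
    haveI := ih
    haveI := QCohLib.isQCoh_unit (X := X)
    haveI : Coh.IsQCoh (Coh.structureModule X ⊞ FlatMod.freeMod X n) := QCohLib.isQCoh_biprod _ _
    exact QCohLib.isQCoh_of_iso (freeModSucc X n).symm

theorem isCoh_of_locFree {n : ℕ} {E : X.Modules} (hE : FlatMod.IsFinLocFreeOfRank n E) :
    Coh.IsCoh E := by
  choose U hU e using hE
  have hc : ⨆ x, U x = ⊤ := eq_top_iff.mpr fun x _ => Opens.mem_iSup.mpr ⟨x, hU x⟩
  refine ⟨QCohLib.isQCoh_of_cover E U hc fun x => ?_,
    QCohLib.isFT_of_cover E U hc fun x => QCohLib.isFT_of_iso (e x).some.symm (isFT_freeMod _ n)⟩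
  haveI := isQCoh_freeMod (U x : Scheme.{u}) n
  exact QCohLib.isQCoh_of_iso (e x).some.symm

theorem locFree_of_isInvertible {L : X.Modules} (hL : PicF.IsInvertible L) :
    FlatMod.IsFinLocFreeOfRank 1 L := fun x => by
  obtain ⟨U, hU, ⟨e⟩⟩ := hL x
  exact ⟨U, hU, ⟨e ≪≫
    { hom := Sigma.ι (fun _ : Fin 1 => Coh.structureModule (U : Scheme.{u})) 0
      inv := Sigma.desc fun _ => 𝟙 _
      hom_inv_id := Sigma.ι_desc _ _
      inv_hom_id := Sigma.hom_ext _ _ fun i => by
        rw [Sigma.ι_desc_assoc, Category.id_comp, Category.comp_id, Subsingleton.elim (0 : Fin 1) i] }⟩⟩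

/-- Exactness may be checked on stalks. -/
theorem shortExact_of_stalks (S : ShortComplex X.Modules)
    (h : ∀ x : X, (S.map (St x)).ShortExact) : S.ShortExact where
  mono_f := Preadditive.mono_of_kernel_zero ((isZero_of_support_empty
    (Set.eq_empty_of_forall_notMem fun x => notMem_support_kernel S.f x
      ((ModuleCat.mono_iff_injective _).mp (h x).mono_f))).eq_of_src _ _)
  epi_g := Abelian.epi_of_cokernel_π_eq_zero _ ((isZero_of_support_empty
    (Set.eq_empty_of_forall_notMem fun x => notMem_support_cokernel S.g x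
      ((ModuleCat.epi_iff_surjective _).mp (h x).epi_g))).eq_of_tgt _ _)
  exact := by
    rw [ShortComplex.exact_iff_isZero_homology, KFlatLib.isZero_iff_forall_stalk]
    intro x
    exact ((ShortComplex.exact_iff_isZero_homology _).mp (h x).exact).of_iso
      (S.mapHomologyIso (St x)).symm

/-- The stalk of the structure sheaf. -/
noncomputable def stalkStructureEquiv (x : X) :
    (St x).obj (Coh.structureModule X) ≃ₗ[X.presheaf.stalk x] X.presheaf.stalk x :=
  ((St x).mapIso (KFlatLib.structureIso X).symm ≪≫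
    KFlatLib.stalkFreeUIso x (show x ∈ (⊤ : X.Opens) from trivial)).toLinearEquiv

section Finite

variable {k : Type u} [Field k] [X.Over (Spec (CommRingCat.of k))]
  [IsProper (X ↘ Spec (CommRingCat.of k))]

theorem finiteCoh_tensor_of_dim_zero {F : X.Modules} (hF : Coh.IsCoh F)
    (hd : topologicalKrullDim (CohB1.support F) ≤ 0) {n : ℕ} {E : X.Modules}
    (hE : FlatMod.IsFinLocFreeOfRank n E) :
    AtlasCoh.FiniteCoh (X ↘ Spec (CommRingCat.of k)) (CohB1.tensorMod F E) := by
  obtain ⟨hT, hTc⟩ := finite_support_data k hF hd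
  have hcl := isClosed_support F hF.2
  haveI := isNoetherian k (X := X)
  haveI := finite_HH (k := k) hF 0
  have hfinF := fun x => finite_stalk (k := k) F hT hTc subset_rfl x
  have hsupp : CohB1.support (CohB1.tensorMod F E) ⊆ CohB1.support F := fun x hx => by
    by_contra h
    obtain ⟨e⟩ := nonempty_stalk_tensor_locFree hE F x
    have hs : Subsingleton ((St x).obj F) := not_not.mp h
    exact hx (e.toEquiv.subsingleton_congr.mpr inferInstance)
  intro p
  rcases Nat.eq_zero_or_pos p with rfl | hp
  · letI := secModule (k := k) (CohB1.tensorMod F E)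
    letI := fun x : CohB1.support F => stalkModule (k := k) (CohB1.tensorMod F E) x.1
    haveI : ∀ x : CohB1.support F, Module.Finite k ((St x.1).obj (CohB1.tensorMod F E)) := fun x => by
      letI := stalkModule (k := k) F x.1
      haveI := hfinF x.1
      obtain ⟨e⟩ := nonempty_stalk_tensor_locFree hE F x.1
      exact Module.Finite.equiv ({ e.toAddEquiv with
        map_smul' := fun c z => e.map_smul (Curv2.stalkMap k X x.1 c) z } :
          (St x.1).obj (CohB1.tensorMod F E) ≃ₗ[k] (Fin n → (St x.1).obj F)).symm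
    haveI : Finite (CohB1.support F) := hT
    exact Module.Finite.equiv ((hhZeroEquiv (k := k) (CohB1.tensorMod F E)).trans
      (secStalksEquiv _ hT hTc hsupp)).symm
  · haveI : Subsingleton (Coh.HH X (CohB1.tensorMod F E) p) :=
      subsingleton_HH_of_support (CohB1.tensorMod F E) hcl hsupp (d := 0) (by exact_mod_cast hd) p hp
    infer_instance

end Finite

/-- The functor `M ⊗ -`. -/
noncomputable abbrev tensorLeft' (E : X.Modules) : X.Modules ⥤ X.Modules :=
  (DCoh.tensorBi (X := X)).obj E

/-- Tensoring with a locally free module preserves short exactness. -/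
theorem shortExact_tensor_locFree {n : ℕ} {E : X.Modules} (hE : FlatMod.IsFinLocFreeOfRank n E)
    {S : ShortComplex X.Modules} (hS : S.ShortExact) : (S.map (tensorLeft' E)).ShortExact := by
  refine shortExact_of_stalks _ fun x => ?_
  let R := X.presheaf.stalk x
  haveI : Module.Flat R ((St x).obj E) :=
    Module.Flat.of_linearEquiv (nonempty_stalk_pi_of_locFree hE x).some
  have hx := hS.map_of_exact (St x)
  let T := (S.map (St x)).map (MonoidalCategory.tensorLeft ((St x).obj E))
  have hT : T.ShortExact :=
    { exact := Module.Flat.lTensor_shortComplex_exact ((St x).obj E) _ hx.exact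
      mono_f := (ModuleCat.mono_iff_injective _).mpr
        (Module.Flat.lTensor_preserves_injective_linearMap _
          ((ModuleCat.mono_iff_injective _).mp hx.mono_f))
      epi_g := (ModuleCat.epi_iff_surjective _).mpr
        (LinearMap.lTensor_surjective _ ((ModuleCat.epi_iff_surjective _).mp hx.epi_g)) }
  exact ShortComplex.shortExact_of_iso
    (ShortComplex.isoMk (KFlatLib.stalkTensorIso E S.X₁ x) (KFlatLib.stalkTensorIso E S.X₂ x)
      (KFlatLib.stalkTensorIso E S.X₃ x)
      (KFlatLib.stalkTensorIso_natural_right (M := E) x S.f).symm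
      (KFlatLib.stalkTensorIso_natural_right (M := E) x S.g).symm :
      T ≅ (S.map (tensorLeft' E)).map (St x)) hT

section Integral

variable [IsIntegral X]

/-- Rank at the generic point. -/
noncomputable def genRank (F : X.Modules) : ℕ :=
  Module.finrank (X.presheaf.stalk (genericPoint X)) (F.presheaf.stalk (genericPoint X))

theorem genRank_add {S : ShortComplex X.Modules} (hS : S.ShortExact)
    (h₁ : Coh.IsCoh S.X₁) (h₂ : Coh.IsCoh S.X₂) (h₃ : Coh.IsCoh S.X₃) [IsLocallyNoetherian X] :
    genRank S.X₂ = genRank S.X₁ + genRank S.X₃ := by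
  let η := genericPoint X
  letI : Field (X.presheaf.stalk η) := (inferInstance : Field X.functionField)
  have hx := hS.map_of_exact (St η)
  haveI : Module.Finite (X.presheaf.stalk η) ((St η).obj S.X₂) :=
    haveI := DevissLib.isNoetherian_stalk h₂ η
    inferInstance
  let f := ((St η).map S.f).hom
  let g := ((St η).map S.g).hom
  have hf : Function.Injective f := (ModuleCat.mono_iff_injective _).mp hx.mono_f
  have hg : Function.Surjective g := (ModuleCat.epi_iff_surjective _).mp hx.epi_g
  have hex : LinearMap.range f = LinearMap.ker g := hx.exact.moduleCat_range_eq_ker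
  have h := g.finrank_range_add_finrank_ker
  rw [← hex, LinearMap.finrank_range_of_inj hf, LinearMap.range_eq_top.mpr hg, finrank_top] at h
  change genRank S.X₃ + genRank S.X₁ = genRank S.X₂ at h
  omega

variable {k : Type u} [Field k] [X.Over (Spec (CommRingCat.of k))]
  [IsProper (X ↘ Spec (CommRingCat.of k))] (hdim : topologicalKrullDim X = 1)

/-- The formula `χ(E ⊗ F) = rk F · deg E + n χ(F)`, with finiteness of the cohomology. -/
def EulerTensorFormula (k : Type u) [Field k] [X.Over (Spec (CommRingCat.of k))]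
    (n : ℕ) (E F : X.Modules) : Prop :=
  AtlasCoh.FiniteCoh (X ↘ Spec (CommRingCat.of k)) ((tensorLeft' E).obj F) ∧
    Curv2.euler k X ((tensorLeft' E).obj F) =
      (genRank F : ℤ) * Curv2.deg k X E n + n * Curv2.euler k X F

include hdim in
theorem euler_add_of_finiteCoh {S : ShortComplex X.Modules} (hS : S.ShortExact)
    (a : AtlasCoh.FiniteCoh (X ↘ Spec (CommRingCat.of k)) S.X₁)
    (b : AtlasCoh.FiniteCoh (X ↘ Spec (CommRingCat.of k)) S.X₂)
    (c : AtlasCoh.FiniteCoh (X ↘ Spec (CommRingCat.of k)) S.X₃) :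
    Curv2.euler k X S.X₂ = Curv2.euler k X S.X₁ + Curv2.euler k X S.X₃ := by
  haveI := isNoetherian k (X := X)
  haveI : ∀ i, Module.Finite k (Coh.HH X S.X₁ i) := fun i => a i
  haveI : ∀ i, Module.Finite k (Coh.HH X S.X₂ i) := fun i => b i
  haveI : ∀ i, Module.Finite k (Coh.HH X S.X₃ i) := fun i => c i
  exact euler_add (k := k) hS (d := 2)
    (fun m hm => subsingleton_HH_of_dim_le _ (d := 1) hdim.le m (by omega))
    (fun m hm => subsingleton_HH_of_dim_le _ (d := 1) hdim.le m (by omega))
    (fun m hm => subsingleton_HH_of_dim_le _ (d := 1) hdim.le m (by omega))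

theorem EulerTensorFormula.of_iso {n : ℕ} {E F F' : X.Modules} (e : F ≅ F')
    (h : EulerTensorFormula k n E F) : EulerTensorFormula k n E F' := by
  refine ⟨h.1.of_iso ((tensorLeft' E).mapIso e), ?_⟩
  rw [← euler_congr (k := k) ((tensorLeft' E).mapIso e), h.2, euler_congr (k := k) e]
  have : genRank F = genRank F' := ((St (genericPoint X)).mapIso e).toLinearEquiv.finrank_eq
  rw [this]

include hdim in
theorem eulerTensorFormula_step {n : ℕ} {E : X.Modules} (hE : FlatMod.IsFinLocFreeOfRank n E)
    {S : ShortComplex X.Modules} (hS : S.ShortExact) (h₁ : Coh.IsCoh S.X₁) (h₂ : Coh.IsCoh S.X₂)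
    (h₃ : Coh.IsCoh S.X₃) :
    (EulerTensorFormula k n E S.X₁ → EulerTensorFormula k n E S.X₂ → EulerTensorFormula k n E S.X₃) ∧
      (EulerTensorFormula k n E S.X₁ → EulerTensorFormula k n E S.X₃ → EulerTensorFormula k n E S.X₂) ∧
      (EulerTensorFormula k n E S.X₂ → EulerTensorFormula k n E S.X₃ → EulerTensorFormula k n E S.X₁) := by
  haveI := isNoetherian k (X := X)
  have hT := shortExact_tensor_locFree hE hS
  have hadd := euler_add_of_isCoh (k := k) hS h₁ h₂ h₃
  have hr := genRank_add hS h₁ h₂ h₃
  have key : ∀ (a : AtlasCoh.FiniteCoh (X ↘ Spec (CommRingCat.of k)) ((tensorLeft' E).obj S.X₁))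
      (b : AtlasCoh.FiniteCoh (X ↘ Spec (CommRingCat.of k)) ((tensorLeft' E).obj S.X₂))
      (c : AtlasCoh.FiniteCoh (X ↘ Spec (CommRingCat.of k)) ((tensorLeft' E).obj S.X₃)),
      Curv2.euler k X ((tensorLeft' E).obj S.X₂) = Curv2.euler k X ((tensorLeft' E).obj S.X₁) +
        Curv2.euler k X ((tensorLeft' E).obj S.X₃) := fun a b c =>
    euler_add_of_finiteCoh (k := k) (S := S.map (tensorLeft' E)) hdim hT a b c
  refine ⟨fun a b => ?_, fun a c => ?_, fun b c => ?_⟩
  · have hc := AtlasCoh.FiniteCoh.right hT a.1 b.1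
    refine ⟨hc, ?_⟩
    have := key a.1 b.1 hc
    rw [a.2, b.2, hr, hadd] at this
    push_cast at this
    linarith
  · have hb := AtlasCoh.FiniteCoh.mid hT a.1 c.1
    refine ⟨hb, ?_⟩
    rw [key a.1 hb c.1, a.2, c.2, hr, hadd]
    push_cast
    ring
  · have ha := AtlasCoh.FiniteCoh.left hT b.1 c.1
    refine ⟨ha, ?_⟩
    have := key ha b.1 c.1
    rw [b.2, c.2, hr, hadd] at this
    push_cast at this
    linarith

theorem eulerTensorFormula_structure {n : ℕ} {E : X.Modules} (hE : FlatMod.IsFinLocFreeOfRank n E) :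
    EulerTensorFormula k n E (Coh.structureModule X) := by
  let e : (tensorLeft' E).obj (Coh.structureModule X) ≅ E :=
    KFlatLib.tensSwap (Coh.structureModule X) E ≪≫ KFlatLib.tensUnitIso E
  have hf : AtlasCoh.FiniteCoh (X ↘ Spec (CommRingCat.of k)) E :=
    fun q => finite_HH (k := k) (isCoh_of_locFree hE) q
  refine ⟨hf.of_iso e.symm, ?_⟩
  have h1 : genRank (Coh.structureModule X) = 1 :=
    (stalkStructureEquiv (genericPoint X)).finrank_eq.trans (Module.finrank_self _)
  rw [euler_congr (k := k) e, h1, Curv2.deg]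
  push_cast
  ring

include hdim in
theorem eulerTensorFormula_dim_zero {n : ℕ} {E : X.Modules} (hE : FlatMod.IsFinLocFreeOfRank n E)
    {G : X.Modules} (hG : Coh.IsCoh G) (hgen : genericPoint X ∉ CohB1.support G) :
    EulerTensorFormula k n E G := by
  have hd : topologicalKrullDim (CohB1.support G) ≤ 0 :=
    topologicalKrullDim_le_zero_of_lt hdim (isClosed_support G hG.2) fun h =>
      hgen (h ▸ Set.mem_univ (genericPoint X))
  haveI : Subsingleton (G.presheaf.stalk (genericPoint X)) := not_not.mp hgen
  have hrk : genRank G = 0 := Module.finrank_zero_of_subsingleton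
  let sw : (tensorLeft' E).obj G ≅ CohB1.tensorMod G E := KFlatLib.tensSwap G E
  refine ⟨AtlasCoh.FiniteCoh.of_iso sw.symm (finiteCoh_tensor_of_dim_zero hG hd hE), ?_⟩
  rw [euler_congr (k := k) sw, euler_tensor_locFree_of_dim_zero hG hd hE, hrk]
  push_cast
  ring

include hdim in
theorem eulerTensorFormula_of_isCoh {n : ℕ} {E : X.Modules} (hE : FlatMod.IsFinLocFreeOfRank n E)
    (F : X.Modules) (hF : Coh.IsCoh F) : EulerTensorFormula k n E F := by
  haveI := isNoetherian k (X := X)
  refine DevissLib.devissage (EulerTensorFormula k n E) (fun M N ⟨e⟩ h => h.of_iso e) Set.univ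
    (fun S hS h₁ h₂ h₃ _ => eulerTensorFormula_step hdim hE hS h₁ h₂ h₃) Set.univ_nonempty
    (fun η _ _ => ?_) isClosed_univ F hF (Set.subset_univ _)
  by_cases hη : η = genericPoint X
  · subst hη
    have hcl : closure ({genericPoint X} : Set X) = Set.univ := (genericPoint_spec X).def
    refine ⟨Coh.structureModule X, DevissLib.isCoh_structureModule X, ?_, ?_,
      eulerTensorFormula_structure hE⟩
    · rw [hcl]
      refine Set.eq_univ_of_forall fun x hsub => ?_
      exact one_ne_zero (α := X.presheaf.stalk x)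
        (@Subsingleton.elim _ ((stalkStructureEquiv x).toEquiv.subsingleton_congr.mp hsub) _ _)
    · letI : Field (X.presheaf.stalk (genericPoint X)) := (inferInstance : Field X.functionField)
      exact ⟨(stalkStructureEquiv (genericPoint X)).trans
        (LinearEquiv.ofBijective (Algebra.linearMap (X.presheaf.stalk (genericPoint X))
          (IsLocalRing.ResidueField (X.presheaf.stalk (genericPoint X))))
          ⟨RingHom.injective _, IsLocalRing.residue_surjective⟩)⟩
  · obtain ⟨Z, i, hi, hZ, hr⟩ := DevissLib.exists_integral_closed (isClosed_closure (s := {η}))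
      isIrreducible_singleton.closure
    obtain ⟨hG, hsupp, he⟩ := DevissLib.push_generic i (Coh.structureModule Z)
      (DevissLib.isCoh_structureModule Z) ⊤ Set.univ_nonempty
      (fun W _ => DevissLib.exists_gen_structureModule W)
    have hη' : i (genericPoint Z) = η := by
      have h1 : IsGenericPoint (i (genericPoint Z)) (closure (i '' ⊤)) :=
        (genericPoint_spec Z).image i.continuous
      rw [Set.top_eq_univ, Set.image_univ, hr, closure_closure] at h1
      exact h1.eq (isGenericPoint_closure)
    subst hη'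
    refine ⟨_, hG, hsupp.trans hr, he, eulerTensorFormula_dim_zero hdim hE hG fun h => ?_⟩
    rw [hsupp.trans hr] at h
    exact hη (((specializes_iff_mem_closure.mpr h).antisymm
      ((genericPoint_spec X).specializes trivial)).eq)

end Integral

end CurvLib
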