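import Groth.Agent.CohTopLib.Vanishing
import Groth.Agent.QCohLib.AffineFinite
import Groth.Agent.QCohLib.Modules
import Groth.Prelude.Def_CohB1

/-!
# Vanishing of cohomology above the dimension of the support
-/

universe u
open CategoryTheory CategoryTheory.Limits AlgebraicGeometry TopologicalSpace Opposite

namespace CurvLib

open QCohLib CohTopLib

/-- Chains of irreducible closed sets inside a closed subset. -/
theorem height_lt_of_subset {α : Type u} [TopologicalSpace α] {T : Set α} (hT : IsClosed T) {d : ℕ}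
    (hd : topologicalKrullDim T ≤ d) (Z : IrreducibleCloseds α) (hZ : (Z : Set α) ⊆ T) :
    Order.height Z < (d + 1 : ℕ) := by
  by_contra h
  obtain ⟨p, hlast, hlen⟩ := Order.exists_series_of_le_height Z (not_lt.mp h)
  have hmem : ∀ i, (p i : Set α) ⊆ T := fun i x hx => by
    have h' : p i ≤ Z := hlast ▸ p.monotone (Fin.le_last i)
    exact hZ (h' hx)
  have hirr : ∀ i, IsIrreducible (Subtype.val ⁻¹' (p i : Set α) : Set T) := fun i => by
    refine ⟨?_, ?_⟩
    · obtain ⟨x, hx⟩ := (p i).isIrreducible.1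
      exact ⟨⟨x, hmem i hx⟩, hx⟩
    · rintro U V hU hV ⟨x, hx, hxU⟩ ⟨y, hy, hyV⟩
      obtain ⟨U', hU', rfl⟩ := isOpen_induced_iff.mp hU
      obtain ⟨V', hV', rfl⟩ := isOpen_induced_iff.mp hV
      obtain ⟨z, hz, hzU, hzV⟩ := (p i).isIrreducible.2 U' V' hU' hV' ⟨x, hx, hxU⟩ ⟨y, hy, hyV⟩
      exact ⟨⟨z, hmem i hz⟩, hz, hzU, hzV⟩
  let c : ∀ i : Fin (p.length + 1), IrreducibleCloseds T := fun i =>
    ⟨Subtype.val ⁻¹' (p i : Set α), hirr i, (p i).isClosed.preimage continuous_subtype_val⟩
  have hc : StrictMono c := by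
    intro i j hij
    have hlt : p i < p j := p.strictMono hij
    refine lt_of_le_not_ge (fun x hx => hlt.le hx) fun h' => ?_
    exact hlt.not_ge fun x hx => h' (show (⟨x, hmem j hx⟩ : T) ∈ c j from hx)
  let q : LTSeries (IrreducibleCloseds T) := LTSeries.mk p.length c hc
  have := (Order.LTSeries.length_le_krullDim q).trans hd
  rw [show q.length = p.length from rfl, hlen] at this
  have h2 : ((d + 1 : ℕ) : ℕ∞) ≤ (d : ℕ∞) := WithBot.coe_le_coe.mp (by exact_mod_cast this)
  exact absurd (Nat.cast_le.mp h2) (by omega)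

variable {X : Scheme.{u}}

/-- A module supported in a closed set of dimension `≤ d` has dimension `< d + 1`. -/
theorem dimLT_of_support (M : X.Modules) {T : Set X} (hT : IsClosed T)
    (hM : CohB1.support M ⊆ T) {d : ℕ} (hd : topologicalKrullDim T ≤ d) :
    DimLT ((toAbF X).obj M) (d + 1) := by
  intro Z hZ U hU s
  let C : Opens X.toTopCat := ⟨Tᶜ, hT.isOpen_compl⟩
  have hC : Meets C Z := by
    by_contra h
    refine absurd (height_lt_of_subset hT hd Z fun x hx => ?_) (not_lt.mpr hZ)
    by_contra hx'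
    exact h ⟨x, hx', hx⟩
  refine ⟨U ⊓ C, homOfLE inf_le_left, hU.inf hC, ?_⟩
  refine TopCat.Presheaf.section_ext ((toAbF X).obj M : TopCat.Sheaf AddCommGrpCat X.toTopCat) (U ⊓ C) _ _
    fun x hx => ?_
  have : Subsingleton (M.presheaf.stalk x) := not_not.mp fun h => hx.2 (hM h)
  exact @Subsingleton.elim _ this _ _

/-- Vanishing above the dimension of the support. -/
theorem subsingleton_HU_of_support [NoetherianSpace X] (M : X.Modules) {T : Set X} (hT : IsClosed T)
    (hM : CohB1.support M ⊆ T) {d : ℕ} (hd : topologicalKrullDim T ≤ d) (U : X.Opens) (p : ℕ)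
    (hp : d < p) : Subsingleton (HU ((toAbF X).obj M) p U) :=
  haveI : NoetherianSpace X.toTopCat := ‹_›
  subsingleton_HU_of_dimLT (d + 1) _ (dimLT_of_support M hT hM hd) U p hp

theorem subsingleton_HH_of_support [NoetherianSpace X] (M : X.Modules) {T : Set X} (hT : IsClosed T)
    (hM : CohB1.support M ⊆ T) {d : ℕ} (hd : topologicalKrullDim T ≤ d) (p : ℕ) (hp : d < p) :
    Subsingleton (Coh.HH X M p) :=
  (subsingleton_H_iff _ p).mpr (subsingleton_HU_of_support M hT hM hd ⊤ p hp)

theorem subsingleton_HH_of_support_dim [NoetherianSpace X] (M : X.Modules) (hM : CohB1.IsFT M)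
    {d : ℕ} (hd : topologicalKrullDim (CohB1.support M) ≤ d) (p : ℕ) (hp : d < p) :
    Subsingleton (Coh.HH X M p) :=
  subsingleton_HH_of_support M (isClosed_support M hM) subset_rfl hd p hp

theorem subsingleton_HH_of_dim_le [NoetherianSpace X] (M : X.Modules) {d : ℕ}
    (hd : topologicalKrullDim X ≤ d) (p : ℕ) (hp : d < p) : Subsingleton (Coh.HH X M p) :=
  CohTopLib.subsingleton_H_of_dim_le d hd _ p hp

end CurvLib
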