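import Groth.Agent.AtlasCohLib.Finiteness
import Groth.Agent.QCohLib.Bound
import Groth.Agent.CurvLib.SupportVanish
import Groth.Prelude.Def_CurvBase

/-!
# The Euler characteristic on a proper scheme over a field
-/

universe u
open CategoryTheory CategoryTheory.Limits AlgebraicGeometry TopologicalSpace Opposite

namespace CurvLib

variable {k : Type u} [Field k] {X : Scheme.{u}} [X.Over (Spec (CommRingCat.of k))]

section Proper

variable [IsProper (X ↘ Spec (CommRingCat.of k))]

include k in
variable (k) in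
theorem isNoetherian : IsNoetherian X := by
  have : IsLocallyNoetherian X := LocallyOfFiniteType.isLocallyNoetherian (X ↘ Spec (CommRingCat.of k))
  have : CompactSpace X := QuasiCompact.compactSpace_of_compactSpace (X ↘ Spec (CommRingCat.of k))
  exact {}

theorem finite_HH {M : X.Modules} (hM : Coh.IsCoh M) (p : ℕ) : Module.Finite k (Coh.HH X M p) :=
  AtlasCoh.finiteCoh_of_isProper (X ↘ Spec (CommRingCat.of k)) M hM p

include k in
variable (k) in
theorem exists_bound : ∃ d : ℕ, ∀ M : X.Modules, Coh.IsQCoh M → ∀ n, d ≤ n →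
    Subsingleton (Coh.HH X M n) := by
  haveI := isNoetherian k (X := X)
  haveI : QuasiSeparatedSpace X := inferInstance
  obtain ⟨d, hd⟩ := QCohLib.bounded_of_isCompact (X := X) ⊤ isCompact_univ
  exact ⟨d, fun M hM n hn => (QCohLib.subsingleton_H_iff _ n).mpr (hd M hM n hn)⟩

end Proper

theorem euler_eq_sum {M : X.Modules} {d : ℕ} (h : ∀ n, d ≤ n → Subsingleton (Coh.HH X M n)) :
    Curv2.euler k X M = ∑ i ∈ Finset.range d, (-1 : ℤ) ^ i * (Module.finrank k (Coh.HH X M i) : ℤ) := by
  refine finsum_eq_sum_of_support_subset _ fun i hi => ?_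
  rw [Finset.coe_range, Set.mem_Iio]
  by_contra hd
  have := h i (not_lt.mp hd)
  exact hi (by simp [Module.finrank_zero_of_subsingleton])

theorem euler_eq_finrank {M : X.Modules} (h : ∀ n, 1 ≤ n → Subsingleton (Coh.HH X M n)) :
    Curv2.euler k X M = (Module.finrank k (Coh.HH X M 0) : ℤ) := by
  simp [euler_eq_sum h]

theorem euler_eq_sub {M : X.Modules} (h : ∀ n, 2 ≤ n → Subsingleton (Coh.HH X M n)) :
    Curv2.euler k X M =
      (Module.finrank k (Coh.HH X M 0) : ℤ) - (Module.finrank k (Coh.HH X M 1) : ℤ) := by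
  rw [euler_eq_sum h, Finset.sum_range_succ, Finset.sum_range_one]
  ring

section Maps

variable {M N : X.Modules}

/-- The `k`-linear map induced on cohomology. -/
noncomputable def hMap (φ : M ⟶ N) (p : ℕ) : Coh.HH X M p →ₗ[k] Coh.HH X N p :=
  AtlasCoh.hLin (X ↘ Spec (CommRingCat.of k)) φ p

theorem hMap_apply (φ : M ⟶ N) (p : ℕ) (x : Coh.HH X M p) :
    hMap (k := k) φ p x = Sheaf.H.map ((QCohLib.toAbF X).map φ) p x := rfl

theorem hMap_comp {L : X.Modules} (φ : M ⟶ N) (ψ : N ⟶ L) (p : ℕ) (x : Coh.HH X M p) :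
    hMap (k := k) (φ ≫ ψ) p x = hMap (k := k) ψ p (hMap (k := k) φ p x) := by
  rw [hMap_apply, hMap_apply, hMap_apply, Functor.map_comp, Sheaf.H.map_comp_apply]

/-- Isomorphic modules have isomorphic cohomology. -/
noncomputable def hIso (e : M ≅ N) (p : ℕ) : Coh.HH X M p ≃ₗ[k] Coh.HH X N p :=
  LinearEquiv.ofBijective (hMap e.hom p)
    ⟨fun x y h => by
      have := congrArg (hMap (k := k) e.inv p) h
      rw [← hMap_comp, ← hMap_comp, e.hom_inv_id, hMap_apply, hMap_apply,
        CategoryTheory.Functor.map_id, Sheaf.H.map_id_apply, Sheaf.H.map_id_apply] at this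
      exact this,
    fun y => ⟨hMap (k := k) e.inv p y, by
      rw [← hMap_comp, e.inv_hom_id, hMap_apply, CategoryTheory.Functor.map_id, Sheaf.H.map_id_apply]⟩⟩

theorem euler_congr (e : M ≅ N) : Curv2.euler k X M = Curv2.euler k X N :=
  finsum_congr fun i => by rw [(hIso (k := k) e i).finrank_eq]

theorem deg_congr (e : M ≅ N) (n : ℕ) : Curv2.deg k X M n = Curv2.deg k X N n := by
  rw [Curv2.deg, Curv2.deg, euler_congr e]

end Maps

section Seq

variable {S : ShortComplex X.Modules} (hS : S.ShortExact)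

include hS in
/-- The connecting map. -/
noncomputable def hDel (p : ℕ) : Coh.HH X S.X₃ p →ₗ[k] Coh.HH X S.X₁ (p + 1) :=
  AtlasCoh.δLin hS (X ↘ Spec (CommRingCat.of k)) p

include hS in
theorem exact₂ (p : ℕ) : LinearMap.range (hMap (k := k) S.f p) = LinearMap.ker (hMap (k := k) S.g p) := by
  refine le_antisymm ?_ fun y hy => AtlasCoh.hExact₂ (QCohLib.toAbF_shortExact hS) p y hy
  rintro _ ⟨x, rfl⟩
  rw [LinearMap.mem_ker, ← hMap_comp, S.zero, hMap_apply, Functor.map_zero]
  exact (congrArg (fun e => Abelian.Ext.comp x e (add_zero p)) (Abelian.Ext.mk₀_zero _ _)).trans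
    (Abelian.Ext.comp_zero ..)

theorem exact₃ (p : ℕ) : LinearMap.range (hMap (k := k) S.g p) = LinearMap.ker (hDel (k := k) hS p) := by
  refine le_antisymm ?_ fun y hy => AtlasCoh.hExact₃ (QCohLib.toAbF_shortExact hS) p y hy
  rintro _ ⟨x, rfl⟩
  exact (Abelian.Ext.comp_assoc_of_second_deg_zero ..).trans
    ((congrArg (fun e => Abelian.Ext.comp x e rfl) (QCohLib.toAbF_shortExact hS).comp_extClass).trans
      (Abelian.Ext.comp_zero ..))

theorem exact₁ (p : ℕ) : LinearMap.range (hDel (k := k) hS p) = LinearMap.ker (hMap (k := k) S.f (p + 1)) := by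
  refine le_antisymm ?_ fun y hy => AtlasCoh.hExact₁ (QCohLib.toAbF_shortExact hS) p y hy
  rintro _ ⟨x, rfl⟩
  exact (Abelian.Ext.comp_assoc_of_third_deg_zero ..).trans
    ((congrArg (fun e => Abelian.Ext.comp x e (add_zero (p + 1))) (QCohLib.toAbF_shortExact hS).extClass_comp).trans
      (Abelian.Ext.comp_zero ..))

include hS in
theorem injective₀ : Function.Injective (hMap (k := k) S.f 0) :=
  AtlasCoh.hMap_injective (QCohLib.toAbF_shortExact hS)

include hS in
/-- Additivity of the Euler characteristic, for modules with finite bounded cohomology. -/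
theorem euler_add {d : ℕ} (h1 : ∀ n, d ≤ n → Subsingleton (Coh.HH X S.X₁ n))
    (h2 : ∀ n, d ≤ n → Subsingleton (Coh.HH X S.X₂ n))
    (h3 : ∀ n, d ≤ n → Subsingleton (Coh.HH X S.X₃ n))
    [∀ i, Module.Finite k (Coh.HH X S.X₁ i)] [∀ i, Module.Finite k (Coh.HH X S.X₂ i)]
    [∀ i, Module.Finite k (Coh.HH X S.X₃ i)] :
    Curv2.euler k X S.X₂ = Curv2.euler k X S.X₁ + Curv2.euler k X S.X₃ := by
  let rf : ℕ → ℤ := fun i => Module.finrank k (LinearMap.range (hMap (k := k) S.f i))
  let rg : ℕ → ℤ := fun i => Module.finrank k (LinearMap.range (hMap (k := k) S.g i))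
  let rd : ℕ → ℤ := fun i => Module.finrank k (LinearMap.range (hDel (k := k) hS i))
  have e2 : ∀ i, (Module.finrank k (Coh.HH X S.X₂ i) : ℤ) = rf i + rg i := fun i => by
    have := (hMap (k := k) S.g i).finrank_range_add_finrank_ker
    rw [← exact₂ hS i] at this
    simp only [rf, rg]
    omega
  have e3 : ∀ i, (Module.finrank k (Coh.HH X S.X₃ i) : ℤ) = rg i + rd i := fun i => by
    have := (hDel (k := k) hS i).finrank_range_add_finrank_ker
    rw [← exact₃ hS i] at this
    simp only [rd, rg]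
    omega
  have e1 : ∀ i, (Module.finrank k (Coh.HH X S.X₁ (i + 1)) : ℤ) = rf (i + 1) + rd i := fun i => by
    have := (hMap (k := k) S.f (i + 1)).finrank_range_add_finrank_ker
    rw [← exact₁ hS i] at this
    simp only [rf, rd]
    omega
  have e0 : (Module.finrank k (Coh.HH X S.X₁ 0) : ℤ) = rf 0 := by
    simp only [rf, LinearMap.finrank_range_of_inj (injective₀ hS)]
  have key : ∀ n : ℕ, ∑ i ∈ Finset.range (n + 1), (-1 : ℤ) ^ i *
      ((Module.finrank k (Coh.HH X S.X₁ i) : ℤ) + Module.finrank k (Coh.HH X S.X₃ i) -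
        Module.finrank k (Coh.HH X S.X₂ i)) = (-1 : ℤ) ^ n * rd n := by
    intro n
    induction n with
    | zero => rw [Finset.sum_range_one, e0, e2, e3]; ring
    | succ n ih => rw [Finset.sum_range_succ, ih, e1, e2, e3]; ring
  have hrd : rd d = 0 := by
    haveI := h1 (d + 1) (Nat.le_succ d)
    simp only [rd]
    exact_mod_cast Module.finrank_zero_of_subsingleton
  have h := key d
  rw [hrd, mul_zero] at h
  simp only [mul_sub, mul_add, Finset.sum_sub_distrib, Finset.sum_add_distrib] at h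
  rw [euler_eq_sum (d := d + 1) fun n hn => h1 n (by omega),
    euler_eq_sum (d := d + 1) fun n hn => h2 n (by omega),
    euler_eq_sum (d := d + 1) fun n hn => h3 n (by omega)]
  linarith

include hS in
/-- Additivity of the Euler characteristic of coherent modules on a proper scheme. -/
theorem euler_add_of_isCoh [IsProper (X ↘ Spec (CommRingCat.of k))] (h₁ : Coh.IsCoh S.X₁)
    (h₂ : Coh.IsCoh S.X₂) (h₃ : Coh.IsCoh S.X₃) :
    Curv2.euler k X S.X₂ = Curv2.euler k X S.X₁ + Curv2.euler k X S.X₃ := by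
  obtain ⟨d, hd⟩ := exists_bound k (X := X)
  haveI := fun i => finite_HH (k := k) h₁ i
  haveI := fun i => finite_HH (k := k) h₂ i
  haveI := fun i => finite_HH (k := k) h₃ i
  exact euler_add hS (hd _ h₁.1) (hd _ h₂.1) (hd _ h₃.1)

end Seq

end CurvLib
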