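import Groth.Agent.CurvLib.Euler
import Groth.Agent.DevissLib.ClosedImm
import Groth.Agent.DevissLib.Induction
import Groth.Prelude.Def_Curv2

/-!
# Modules with zero-dimensional support
-/

universe u
open CategoryTheory CategoryTheory.Limits AlgebraicGeometry TopologicalSpace Opposite

namespace CurvLib

open QCohLib DevissLib

theorem finite_of_dim_le_zero {α : Type u} [TopologicalSpace α] [NoetherianSpace α] [T0Space α]
    (hd : topologicalKrullDim α ≤ 0) : Finite α ∧ T1Space α := by
  have hmin : ∀ Z : IrreducibleCloseds α, IsMin Z := fun Z => by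
    rw [← Order.height_eq_zero]
    exact nonpos_iff_eq_zero.mp (WithBot.coe_le_coe.mp ((Order.height_le_krullDim Z).trans hd))
  have hpt : ∀ x y : α, y ∈ closure ({x} : Set α) → y = x := fun x y hy => by
    let Zx : IrreducibleCloseds α := ⟨closure {x}, isIrreducible_singleton.closure, isClosed_closure⟩
    let Zy : IrreducibleCloseds α := ⟨closure {y}, isIrreducible_singleton.closure, isClosed_closure⟩
    have hle : Zy ≤ Zx := fun z hz => (closure_minimal (Set.singleton_subset_iff.mpr hy) isClosed_closure) hz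
    have h2 : Zx ≤ Zy := hmin Zx hle
    exact ((specializes_iff_mem_closure.mpr (h2 (subset_closure rfl))).antisymm
      (specializes_iff_mem_closure.mpr hy)).eq
  have hT1 : T1Space α :=
    ⟨fun x => isClosed_of_closure_subset fun y hy => hpt x y hy⟩
  refine ⟨?_, hT1⟩
  have hsing : Set.univ ⊆ ⋃ C ∈ irreducibleComponents α, C := by
    intro x _
    exact Set.mem_biUnion (irreducibleComponent_mem_irreducibleComponents x) mem_irreducibleComponent
  have hsub : ∀ C ∈ irreducibleComponents α, (C : Set α).Finite := fun C hC => by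
    obtain ⟨x, hx⟩ := hC.1.1
    let Z : IrreducibleCloseds α := ⟨C, hC.1, isClosed_of_mem_irreducibleComponents C hC⟩
    let Zx : IrreducibleCloseds α := ⟨closure {x}, isIrreducible_singleton.closure, isClosed_closure⟩
    have h2 : Z ≤ Zx := hmin Z fun z hz => (closure_minimal (Set.singleton_subset_iff.mpr hx)
      (isClosed_of_mem_irreducibleComponents C hC)) hz
    exact (Set.finite_singleton x).subset fun z hz => hpt x z (h2 hz)
  exact Set.finite_univ_iff.mp
    (((NoetherianSpace.finite_irreducibleComponents (α := α)).biUnion hsub).subset hsing)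

variable {X : Scheme.{u}}

/-- A closed set of dimension `≤ 0` is a finite set of closed points. -/
theorem finite_isClosed_of_dim_le_zero [NoetherianSpace X] {T : Set X} (hT : IsClosed T)
    (hd : topologicalKrullDim T ≤ 0) : T.Finite ∧ ∀ x ∈ T, IsClosed ({x} : Set X) := by
  obtain ⟨hfin, hT1⟩ := finite_of_dim_le_zero (α := T) hd
  refine ⟨Set.toFinite T, fun x hx => ?_⟩
  have h1 := hT.isClosedEmbedding_subtypeVal.isClosedMap _ (isClosed_singleton (x := (⟨x, hx⟩ : T)))
  rwa [Set.image_singleton] at h1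

/-- Every germ of a module supported on finitely many closed points is the germ of a global section. -/
theorem surjective_germ_of_finite_support (M : X.Modules) {T : Set X} (hT : T.Finite)
    (hTc : ∀ x ∈ T, IsClosed ({x} : Set X)) (hM : CohB1.support M ⊆ T) (x : X)
    (a : (St x).obj M) : ∃ s : Γ(M, ⊤), gm M x (show x ∈ (⊤ : X.Opens) from trivial) s = a := by
  by_cases hx : x ∈ T
  swap
  · have : Subsingleton (M.presheaf.stalk x) := not_not.mp fun h => hx (hM h)
    exact ⟨0, @Subsingleton.elim _ this _ _⟩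
  obtain ⟨U, hxU, t, rfl⟩ := exists_gm_eq M x a
  let D : X.Opens := ⟨(⋃ y ∈ T \ {x}, ({y} : Set X))ᶜ,
    (hT.sdiff.isClosed_biUnion fun y hy => hTc y hy.1).isOpen_compl⟩
  let C : X.Opens := ⟨({x} : Set X)ᶜ, (hTc x hx).isOpen_compl⟩
  have hxD : x ∈ D := fun h => by
    obtain ⟨y, hy, rfl⟩ := Set.mem_iUnion₂.mp h
    exact hy.2 rfl
  let W : ULift.{u} Bool → X.Opens := fun b => if b.down then U ⊓ D else C
  let sf : ∀ b, Γ(M, W b) := fun b => match b with
    | ⟨true⟩ => M.presheaf.map (homOfLE (inf_le_left : U ⊓ D ≤ U)).op t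
    | ⟨false⟩ => 0
  have hzero : ∀ (V : X.Opens) (_ : ∀ y ∈ V, y ∉ T) (s : Γ(M, V)), s = 0 := fun V hV s => by
    refine TopCat.Presheaf.section_ext ((toAbF X).obj M : TopCat.Sheaf AddCommGrpCat X.toTopCat) V _ _
      fun y hy => ?_
    have : Subsingleton (M.presheaf.stalk y) := not_not.mp fun h => hV y hy (hM h)
    exact @Subsingleton.elim _ this _ _
  have hdisj : ∀ y ∈ (U ⊓ D) ⊓ C, y ∉ T := fun y hy hyT =>
    hy.1.2 (Set.mem_biUnion (show y ∈ T \ {x} from ⟨hyT, hy.2⟩) rfl)
  have hcomp : TopCat.Presheaf.IsCompatible M.presheaf W sf := by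
    rintro ⟨_ | _⟩ ⟨_ | _⟩
    · rfl
    · exact (hzero (W ⟨false⟩ ⊓ W ⟨true⟩) (fun y hy => hdisj y ⟨hy.2, hy.1⟩) _).trans
        (hzero (W ⟨false⟩ ⊓ W ⟨true⟩) (fun y hy => hdisj y ⟨hy.2, hy.1⟩) _).symm
    · exact (hzero (W ⟨true⟩ ⊓ W ⟨false⟩) hdisj _).trans (hzero (W ⟨true⟩ ⊓ W ⟨false⟩) hdisj _).symm
    · rfl
  have hcov : (⊤ : X.Opens) ≤ iSup W := fun y _ => by
    by_cases hy : y = x
    · subst hy
      exact Opens.mem_iSup.mpr ⟨⟨true⟩, hxU, hxD⟩
    · exact Opens.mem_iSup.mpr ⟨⟨false⟩, hy⟩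
  obtain ⟨s, hs, -⟩ := TopCat.Sheaf.existsUnique_gluing'
    (F := (⟨M.presheaf, M.isSheaf⟩ : TopCat.Sheaf AddCommGrpCat X.toTopCat))
    W ⊤ (fun b => homOfLE le_top) hcov sf hcomp
  refine ⟨s, ?_⟩
  have h2 := hs ⟨true⟩
  rw [← gm_map M (le_top : U ⊓ D ≤ ⊤) x ⟨hxU, hxD⟩ s, ← gm_map M (inf_le_left : U ⊓ D ≤ U) x ⟨hxU, hxD⟩ t]
  exact congrArg (gm M x _) h2

variable {k : Type u} [Field k] [X.Over (Spec (CommRingCat.of k))]
  [IsProper (X ↘ Spec (CommRingCat.of k))]

include k in
variable (k) in
theorem finite_support_data {M : X.Modules} (hM : Coh.IsCoh M)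
    (hd : topologicalKrullDim (CohB1.support M) ≤ 0) :
    (CohB1.support M).Finite ∧ ∀ x ∈ CohB1.support M, IsClosed ({x} : Set X) :=
  haveI := isNoetherian k (X := X)
  finite_isClosed_of_dim_le_zero (isClosed_support M hM.2) hd

/-- The Euler characteristic of a module with zero-dimensional support. -/
theorem euler_eq_h0 {M : X.Modules} (hM : Coh.IsCoh M)
    (hd : topologicalKrullDim (CohB1.support M) ≤ 0) :
    Curv2.euler k X M = (Module.finrank k (Coh.HH X M 0) : ℤ) := by
  haveI := isNoetherian k (X := X)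
  exact euler_eq_finrank fun n hn =>
    subsingleton_HH_of_support_dim M hM.2 (d := 0) (by exact_mod_cast hd) n (by omega)

/-- A module with zero-dimensional support and no global sections vanishes. -/
theorem isZero_of_h0 {M : X.Modules} (hM : Coh.IsCoh M)
    (hd : topologicalKrullDim (CohB1.support M) ≤ 0)
    (h : Module.finrank k (Coh.HH X M 0) = 0) : IsZero M := by
  haveI := finite_HH (k := k) hM 0
  have h1 : Subsingleton (Coh.HH X M 0) := (Module.finrank_zero_iff (R := k)).mp h
  have h2 : Subsingleton Γ(M, ⊤) :=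
    ((QCohLib.hEquiv ((toAbF X).obj M) 0).trans (QCohLib.h0 (U := (⊤ : Opens X.toTopCat)))).toEquiv.subsingleton_congr.mp h1
  obtain ⟨hf, hc⟩ := finite_support_data k hM hd
  refine isZero_of_support_empty (Set.eq_empty_of_forall_notMem fun x hx => ?_)
  obtain ⟨a, ha⟩ := (mem_support_iff_nonzero M x).mp hx
  obtain ⟨s, rfl⟩ := surjective_germ_of_finite_support M hf hc subset_rfl x a
  exact ha (by rw [Subsingleton.elim s 0, gm_zero])

include k in
variable (k) in
/-- A coherent module with zero-dimensional support is globally generated. -/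
theorem isGloballyGenerated_of_dim_zero {M : X.Modules} (hM : Coh.IsCoh M)
    (hd : topologicalKrullDim (CohB1.support M) ≤ 0) : Curv2.IsGloballyGenerated M := by
  obtain ⟨hf, hc⟩ := finite_support_data k hM hd
  refine ⟨Γ(M, ⊤), M.freeHomEquiv.symm fun s => toSections M s, ?_⟩
  let φ := M.freeHomEquiv.symm fun s : Γ(M, ⊤) => toSections M s
  refine Abelian.epi_of_cokernel_π_eq_zero _ ((isZero_of_support_empty
    (Set.eq_empty_of_forall_notMem fun x hx => notMem_support_cokernel φ x (fun a => ?_) hx)).eq_of_tgt _ _)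
  obtain ⟨s, rfl⟩ := surjective_germ_of_finite_support M hf hc subset_rfl x a
  refine ⟨((St x).map (SheafOfModules.ιFree (R := X.ringCatSheaf) s)).hom
    (gm (Coh.structureModule X) x (show x ∈ (⊤ : X.Opens) from trivial) (1 : Γ(X, ⊤))), ?_⟩
  refine (congrArg (fun g => g.hom (gm (Coh.structureModule X) x
    (show x ∈ (⊤ : X.Opens) from trivial) (1 : Γ(X, ⊤)))) (((St x).map_comp _ _).symm.trans
      (congrArg (St x).map (ιFree_comp (fun j : Γ(M, ⊤) => j) s)))).trans ?_
  refine (gm_app (unitHom M s) x (show x ∈ (⊤ : X.Opens) from trivial) _).trans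
    (congrArg (gm M x (show x ∈ (⊤ : X.Opens) from trivial)) ?_)
  rw [unitHom_app, one_smul]
  exact toSections_top M s

end CurvLib
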