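import Groth.Agent.CurvLib.Line

/-!
# Elementary consequences of Riemann–Roch on integral curves
-/

universe u
open CategoryTheory CategoryTheory.Limits AlgebraicGeometry TopologicalSpace Opposite

namespace CurvLib

open QCohLib DevissLib

variable {k : Type u} [Field k] {X : Scheme.{u}} [X.Over (Spec (CommRingCat.of k))]

theorem exists_hom_ne_zero {L : X.Modules} (h : Nontrivial (Coh.HH X L 0)) :
    ∃ s : Coh.structureModule X ⟶ L, s ≠ 0 := by
  obtain ⟨x, hx⟩ := exists_ne (0 : Coh.HH X L 0)
  let e := (QCohLib.hEquiv ((toAbF X).obj L) 0).trans (QCohLib.h0 (U := (⊤ : Opens X.toTopCat)))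
  let σ : Γ(L, ⊤) := e x
  refine ⟨unitHom L σ, fun h0 => hx (e.injective ?_)⟩
  rw [map_zero]
  have h2 := congr_arg (fun φ : Coh.structureModule X ⟶ L => φ.app ⊤ (1 : Γ(X, ⊤))) h0
  change (unitHom L σ).app ⊤ (1 : Γ(X, ⊤)) = 0 at h2
  rw [unitHom_app, one_smul] at h2
  exact (toSections_top L σ).symm.trans h2

section Proper

variable [IsProper (X ↘ Spec (CommRingCat.of k))] [IsIntegral X]
  (hdim : topologicalKrullDim X = 1)

include k hdim in
variable (k) in
theorem h_vanish_of_two_le (M : X.Modules) (n : ℕ) (hn : 2 ≤ n) : Subsingleton (Coh.HH X M n) :=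
  haveI := isNoetherian k (X := X)
  subsingleton_HH_of_dim_le M (d := 1) hdim.le n (by omega)

include hdim in
theorem euler_curve (M : X.Modules) : Curv2.euler k X M =
    (Module.finrank k (Coh.HH X M 0) : ℤ) - (Module.finrank k (Coh.HH X M 1) : ℤ) :=
  euler_eq_sub fun n hn => h_vanish_of_two_le k hdim M n hn

include hdim in
theorem deg_curve (M : X.Modules) (h0 : Module.finrank k (Coh.HH X (Coh.structureModule X) 0) = 1) :
    Curv2.deg k X M 1 = (Module.finrank k (Coh.HH X M 0) : ℤ) -
      (Module.finrank k (Coh.HH X M 1) : ℤ) - 1 + Curv2.genus k X := by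
  rw [Curv2.deg, euler_curve hdim, euler_curve hdim, h0, Curv2.genus]
  push_cast
  ring

include hdim in
/-- A nonzero homomorphism of invertible modules is surjective on `H¹`. -/
theorem h1_le {N L : X.Modules} (hN : PicF.IsInvertible N) (hL : PicF.IsInvertible L)
    {φ : N ⟶ L} (hφ : φ ≠ 0) :
    Module.finrank k (Coh.HH X L 1) ≤ Module.finrank k (Coh.HH X N 1) := by
  obtain ⟨hQ, hd⟩ := cokernel_data (k := k) hN hL hdim hφ
  haveI := mono_of_ne_zero hN hL hφ
  haveI := isNoetherian k (X := X)
  let S : ShortComplex X.Modules := ShortComplex.mk φ (cokernel.π φ) (cokernel.condition φ)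
  have hS : S.ShortExact :=
    { exact := ShortComplex.exact_of_g_is_cokernel _ (cokernelIsCokernel φ)
      mono_f := inferInstanceAs (Mono φ)
      epi_g := inferInstanceAs (Epi (cokernel.π φ)) }
  haveI : Subsingleton (Coh.HH X S.X₃ 1) :=
    subsingleton_HH_of_support_dim (cokernel φ) hQ.2 (d := 0) (by exact_mod_cast hd) 1 Nat.one_pos
  haveI : Module.Finite k (Coh.HH X N 1) := finite_HH (isCoh_of_isInvertible hN) 1
  have hsurj : Function.Surjective (hMap (k := k) φ 1) := fun y =>
    LinearMap.mem_range.mp (by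
      rw [show LinearMap.range (hMap (k := k) φ 1) = LinearMap.ker (hMap (k := k) S.g 1) from exact₂ hS 1,
        LinearMap.mem_ker]
      exact Subsingleton.elim _ _)
  have h := LinearMap.finrank_range_le (hMap (k := k) φ 1)
  rwa [LinearMap.range_eq_top.mpr hsurj, finrank_top] at h

include hdim in
theorem genus_zero_deg_pos (h0 : Module.finrank k (Coh.HH X (Coh.structureModule X) 0) = 1)
    (hg : Curv2.genus k X = 0) {L : X.Modules} (hL : PicF.IsInvertible L)
    (hdeg : 0 ≤ Curv2.deg k X L 1) :
    (Module.finrank k (Coh.HH X L 0) : ℤ) = Curv2.deg k X L 1 + 1 ∧ Subsingleton (Coh.HH X L 1) := by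
  have hd := deg_curve hdim L h0
  haveI := finite_HH (k := k) (isCoh_of_isInvertible hL) 0
  haveI := finite_HH (k := k) (isCoh_of_isInvertible hL) 1
  have hne : Nontrivial (Coh.HH X L 0) := by
    apply Module.nontrivial_of_finrank_pos (R := k)
    omega
  obtain ⟨s, hs⟩ := exists_hom_ne_zero hne
  have h1 := h1_le (k := k) hdim isInvertible_structureModule hL hs
  rw [Curv2.genus] at hg
  refine ⟨by rw [hd, Curv2.genus]; omega, (Module.finrank_zero_iff (R := k)).mp (by omega)⟩

include hdim in
theorem iso_structure_of_genus_zero (h0 : Module.finrank k (Coh.HH X (Coh.structureModule X) 0) = 1)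
    (hg : Curv2.genus k X = 0) {L : X.Modules} (hL : PicF.IsInvertible L)
    (hdeg : Curv2.deg k X L 1 = 0) : Nonempty (L ≅ Coh.structureModule X) := by
  obtain ⟨hh, -⟩ := genus_zero_deg_pos hdim h0 hg hL hdeg.ge
  haveI := finite_HH (k := k) (isCoh_of_isInvertible hL) 0
  have hne : Nontrivial (Coh.HH X L 0) := by
    apply Module.nontrivial_of_finrank_pos (R := k)
    omega
  obtain ⟨s, hs⟩ := exists_hom_ne_zero hne
  rw [Curv2.deg] at hdeg
  haveI := isIso_of_euler_le (k := k) isInvertible_structureModule hL hdim hs (by omega)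
  exact ⟨(asIso s).symm⟩

end Proper

end CurvLib
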