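import Groth.Agent.CurvLib.EulerTensor
import Groth.Prelude.Def_BlowUp2
import Groth.Prelude.Def_ClSub2
import Mathlib.RingTheory.Ideal.MinimalPrime.Basic
import Mathlib.AlgebraicGeometry.Morphisms.QuasiFinite
import Mathlib.AlgebraicGeometry.Artinian

/-! Closed subschemes as modules, effective Cartier divisors on curves. -/

universe u
open CategoryTheory CategoryTheory.Limits AlgebraicGeometry TopologicalSpace Opposite DevissLib

namespace CurvLib

variable {X : Scheme.{u}}

theorem unitToPush_app_surjective {Z : Scheme.{u}} (i : Z ⟶ X) [IsClosedImmersion i]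
    {V : X.Opens} (hV : IsAffineOpen V) : Function.Surjective ((ClSub.unitToPush i).app V) :=
  fun t => Scheme.Hom.app_surjective i V hV t

theorem epi_toSubscheme (I : X.IdealSheafData) : Epi (ClSub.toSubscheme I) := by
  refine Abelian.epi_of_cokernel_π_eq_zero _ ((isZero_of_support_empty
    (Set.eq_empty_of_forall_notMem fun x hx => notMem_support_cokernel _ x (fun a => ?_) hx)).eq_of_tgt _ _)
  obtain ⟨U, hxU, t, rfl⟩ := exists_gm_eq _ x a
  obtain ⟨V, hV, hxV, hVU⟩ := Opens.isBasis_iff_nbhd.mp X.isBasis_affineOpens hxU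
  obtain ⟨s, hs⟩ := unitToPush_app_surjective I.subschemeι hV
    ((ClSub.quotMod I).presheaf.map (homOfLE hVU).op t)
  refine ⟨gm _ x hxV s, ?_⟩
  rw [gm_app]
  exact (congrArg _ hs).trans (gm_map _ hVU x hxV t)

/-- `0 ⟶ I ⟶ O ⟶ O/I ⟶ 0`. -/
noncomputable def idealSeq (I : X.IdealSheafData) : ShortComplex X.Modules :=
  ShortComplex.mk (ClSub.idealModι I) (ClSub.toSubscheme I) (kernel.condition _)

theorem idealSeq_shortExact (I : X.IdealSheafData) : (idealSeq I).ShortExact :=
  { exact := ShortComplex.exact_of_f_is_kernel _ (kernelIsKernel _)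
    mono_f := inferInstanceAs (Mono (kernel.ι (ClSub.toSubscheme I)))
    epi_g := epi_toSubscheme I }

theorem isCoh_quotMod [IsLocallyNoetherian X] (I : X.IdealSheafData) :
    Coh.IsCoh (ClSub.quotMod I) :=
  QCohLib.isCoh_push_finite I.subschemeι _ (isCoh_structureModule _)

theorem support_quotMod_subset (I : X.IdealSheafData) :
    CohB1.support (ClSub.quotMod I) ⊆ (I.support : Set X) :=
  (support_push_subset I.subschemeι _).trans I.range_subschemeι.le

/-- An effective Cartier divisor contains no maximal point. -/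
theorem exists_generization_of_mem {D : X.IdealSheafData} (hD : BlowUp.IsEffCartierIdeal D)
    {x : X} (hx : x ∈ (D.support : Set X)) : ∃ η : X, η ⤳ x ∧ η ≠ x := by
  obtain ⟨U, hxU, f, hf, hI⟩ := hD x
  by_contra h
  push_neg at h
  have hfx : f ∈ (U.2.primeIdealOf ⟨x, hxU⟩).asIdeal := by
    have h1 := (D.mem_support_iff_of_mem hxU).mp hx
    rw [Scheme.mem_zeroLocus_iff] at h1
    have h2 := h1 f (hI ▸ Ideal.mem_span_singleton_self f)
    by_contra hne
    exact h2 (by
      have hxx : U.2.fromSpec (U.2.primeIdealOf ⟨x, hxU⟩) = x := U.2.fromSpec_primeIdealOf ⟨x, hxU⟩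
      rw [← hxx]
      change U.2.primeIdealOf ⟨x, hxU⟩ ∈ U.2.fromSpec ⁻¹ᵁ X.basicOpen f
      rw [U.2.fromSpec_preimage_basicOpen]
      exact hne)
  refine (Ideal.disjoint_nonZeroDivisors_of_mem_minimalPrimes ?_).le_bot ⟨hfx, hf⟩
  refine ⟨⟨(U.2.primeIdealOf ⟨x, hxU⟩).isPrime, bot_le⟩, fun q hq hle => ?_⟩
  have hsp : (⟨q, hq.1⟩ : PrimeSpectrum _) ⤳ U.2.primeIdealOf ⟨x, hxU⟩ :=
    (PrimeSpectrum.le_iff_specializes _ _).mp hle
  have h3 := hsp.map U.2.fromSpec.continuous
  have hxx : U.2.fromSpec (U.2.primeIdealOf ⟨x, hxU⟩) = x := U.2.fromSpec_primeIdealOf ⟨x, hxU⟩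
  have h4 := h _ (h3.trans (specializes_of_eq hxx))
  replace h4 := h4.trans hxx.symm
  exact (congrArg PrimeSpectrum.asIdeal (U.2.fromSpec.isOpenEmbedding.injective h4)).ge

/-- A closed set without maximal points in a space of dimension at most one has dimension `≤ 0`. -/
theorem dim_le_zero_of_no_maximal {α : Type u} [TopologicalSpace α] [QuasiSober α] [T0Space α]
    (hα : topologicalKrullDim α ≤ 1) {T : Set α} (hT : IsClosed T)
    (h : ∀ x ∈ T, ∃ η, η ⤳ x ∧ η ≠ x) : topologicalKrullDim T ≤ 0 := by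
  refine Order.krullDim_nonpos_iff_forall_isMax.mpr fun Z => ?_
  by_contra hZ
  obtain ⟨Z', hlt⟩ := not_isMax_iff.mp hZ
  have hm := IrreducibleCloseds.map_strictMono_of_isInducing (f := (Subtype.val : T → α))
    hT.isClosedEmbedding_subtypeVal.isInducing hlt
  set W := IrreducibleCloseds.map (Subtype.val : T → α) continuous_subtype_val Z'
  obtain ⟨z, hz⟩ := QuasiSober.sober W.isIrreducible W.isClosed
  have hzT : z ∈ T :=
    ((closure_mono (Subtype.coe_image_subset T (Z' : Set T))).trans hT.closure_eq.le) hz.mem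
  obtain ⟨η, hη, hne⟩ := h z hzT
  let top : IrreducibleCloseds α := ⟨closure {η}, isIrreducible_singleton.closure, isClosed_closure⟩
  have hlt2 : W < top := by
    refine lt_of_le_of_ne ?_ fun he => hne ?_
    · intro y hy
      exact specializes_iff_mem_closure.mp (hη.trans (hz.specializes hy))
    · have he' : (W : Set α) = closure {η} := congrArg (fun s : IrreducibleCloseds α => (s : Set α)) he
      rw [he'] at hz
      exact (isGenericPoint_closure (x := η)).eq hz
  rcases Order.krullDim_le_one_iff.mp hα W with hmin | hmax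
  · exact hmin.not_lt hm
  · exact hmax.not_lt hlt2

theorem dim_support_effCartier {D : X.IdealSheafData} (hD : BlowUp.IsEffCartierIdeal D)
    (hdim : topologicalKrullDim X ≤ 1) : topologicalKrullDim (D.support : Set X) ≤ 0 :=
  dim_le_zero_of_no_maximal hdim D.support.isClosed fun _ hx => exists_generization_of_mem hD hx

variable (k : Type u) [Field k] [X.Over (Spec (CommRingCat.of k))]
  [IsProper (X ↘ Spec (CommRingCat.of k))]

theorem isFinite_subscheme (D : X.IdealSheafData)
    (hd : topologicalKrullDim (D.support : Set X) ≤ 0) :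
    IsFinite (D.subschemeι ≫ (X ↘ (Spec (CommRingCat.of k)))) := by
  let f := D.subschemeι ≫ (X ↘ (Spec (CommRingCat.of k)))
  haveI : IsLocallyArtinian (Spec (CommRingCat.of k)) :=
    Scheme.isLocallyArtinianScheme_Spec.mpr inferInstance
  haveI : IsLocallyNoetherian D.subscheme := LocallyOfFiniteType.isLocallyNoetherian f
  have hd' : topologicalKrullDim D.subscheme ≤ 0 :=
    (D.subschemeι.isEmbedding.toHomeomorph.trans
      (Homeomorph.setCongr D.range_subschemeι)).isHomeomorph.topologicalKrullDim_eq.trans_le hd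
  haveI : IsLocallyArtinian D.subscheme := .of_topologicalKrullDim_le_zero hd'
  haveI : CompactSpace D.subscheme := QuasiCompact.compactSpace_of_compactSpace f
  haveI : DiscreteTopology D.subscheme := inferInstance
  haveI : Finite D.subscheme := finite_of_compact_of_discrete
  haveI : LocallyQuasiFinite f :=
    LocallyQuasiFinite.of_finite_preimage_singleton f fun y => Set.toFinite _
  exact IsFinite.of_locallyQuasiFinite f

/-- `χ(E ⊗ L) = χ(E) + n h⁰(O_D)` when `L` is inverse to the ideal of a divisor `D`. -/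
theorem euler_tensor_divisor (hdim : topologicalKrullDim X ≤ 1) {D : X.IdealSheafData}
    (hD : BlowUp.IsEffCartierIdeal D) {L : X.Modules} (hL : PicF.IsInvertible L)
    (hLD : ClSub.IsInverseOf L (ClSub.idealMod D)) {n : ℕ} {E : X.Modules}
    (hE : FlatMod.IsFinLocFreeOfRank n E) :
    Curv2.euler k X (CohB1.tensorMod E L) =
      Curv2.euler k X E + n * (Module.finrank k (Coh.HH X (ClSub.quotMod D) 0) : ℤ) := by
  haveI := isNoetherian k (X := X)
  have hd := dim_support_effCartier hD hdim
  have hQ := isCoh_quotMod D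
  have hdQ : topologicalKrullDim (CohB1.support (ClSub.quotMod D)) ≤ 0 :=
    (Topology.IsEmbedding.inclusion (support_quotMod_subset D)).isInducing.topologicalKrullDim_le.trans hd
  have hL1 := locFree_of_isInvertible hL
  have hT := shortExact_tensor_locFree hL1 (idealSeq_shortExact D)
  obtain ⟨φ⟩ := hLD
  let g : L ⟶ (tensorLeft' L).obj (ClSub.quotMod D) :=
    (KFlatLib.tensSwap (Coh.structureModule X) L ≪≫ KFlatLib.tensUnitIso L).inv ≫
      ((idealSeq D).map (tensorLeft' L)).g
  let f : Coh.structureModule X ⟶ L :=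
    φ.inv ≫ ((idealSeq D).map (tensorLeft' L)).f ≫
      (KFlatLib.tensSwap (Coh.structureModule X) L ≪≫ KFlatLib.tensUnitIso L).hom
  let S : ShortComplex X.Modules := ShortComplex.mk f g (by
    simp only [f, g, Category.assoc]
    erw [Iso.hom_inv_id_assoc, ((idealSeq D).map (tensorLeft' L)).zero, comp_zero])
  have eS : (idealSeq D).map (tensorLeft' L) ≅ S := ShortComplex.isoMk φ
    (KFlatLib.tensSwap (Coh.structureModule X) L ≪≫ KFlatLib.tensUnitIso L) (Iso.refl _)
    (φ.hom_inv_id_assoc _) ((Iso.hom_inv_id_assoc _ _).trans (Category.comp_id _).symm)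
  have hS : S.ShortExact := ShortComplex.shortExact_of_iso eS hT
  have h0 := isCoh_structureModule X
  have hLc := isCoh_of_isInvertible hL
  have hQ' : Coh.IsCoh S.X₃ := by
    haveI := hS.epi_g
    exact QCohLib.isCoh_of_iso
      (IsColimit.coconePointUniqueUpToIso (cokernelIsCokernel S.f) hS.gIsCokernel)
      (QCohLib.isCoh_cokernel S.f h0.1 hLc)
  have hsQ' : topologicalKrullDim (CohB1.support S.X₃) ≤ 0 := by
    refine ((Topology.IsEmbedding.inclusion fun x hx => ?_).isInducing.topologicalKrullDim_le).trans hdQ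
    by_contra h
    haveI : Subsingleton ((St x).obj (ClSub.quotMod D)) := not_not.mp h
    obtain ⟨e⟩ := nonempty_stalk_tensor_locFree hL1 (ClSub.quotMod D) x
    let sw : S.X₃ ≅ CohB1.tensorMod (ClSub.quotMod D) L := KFlatLib.tensSwap (ClSub.quotMod D) L
    exact hx (((St x).mapIso sw).toLinearEquiv.toEquiv.trans e.toEquiv).subsingleton
  have hT2 := shortExact_tensor_locFree hE hS
  have fE : ∀ q, Module.Finite k (Coh.HH X ((tensorLeft' E).obj (Coh.structureModule X)) q) :=
    AtlasCoh.FiniteCoh.of_iso (KFlatLib.tensSwap (Coh.structureModule X) E ≪≫ KFlatLib.tensUnitIso E).symm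
      (fun q => finite_HH (k := k) (isCoh_of_locFree hE) q)
  let sw : (tensorLeft' E).obj S.X₃ ≅ CohB1.tensorMod S.X₃ E := KFlatLib.tensSwap S.X₃ E
  have fQ := AtlasCoh.FiniteCoh.of_iso sw.symm (finiteCoh_tensor_of_dim_zero (k := k) hQ' hsQ' hE)
  have fM := AtlasCoh.FiniteCoh.mid hT2 fE fQ
  haveI : ∀ i, Module.Finite k (Coh.HH X (S.map (tensorLeft' E)).X₁ i) := fun i => fE i
  haveI : ∀ i, Module.Finite k (Coh.HH X (S.map (tensorLeft' E)).X₂ i) := fun i => fM i
  haveI : ∀ i, Module.Finite k (Coh.HH X (S.map (tensorLeft' E)).X₃ i) := fun i => fQ i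
  have key := euler_add (k := k) hT2 (d := 2)
    (fun m hm => subsingleton_HH_of_dim_le _ (d := 1) hdim m (by omega))
    (fun m hm => subsingleton_HH_of_dim_le _ (d := 1) hdim m (by omega))
    (fun m hm => subsingleton_HH_of_dim_le _ (d := 1) hdim m (by omega))
  change Curv2.euler k X ((tensorLeft' E).obj L) = Curv2.euler k X
    ((tensorLeft' E).obj (Coh.structureModule X)) + Curv2.euler k X ((tensorLeft' E).obj S.X₃) at key
  have h1 : Curv2.euler k X S.X₃ = (Module.finrank k (Coh.HH X (ClSub.quotMod D) 0) : ℤ) := by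
    let sq : S.X₃ ≅ CohB1.tensorMod (ClSub.quotMod D) L := KFlatLib.tensSwap (ClSub.quotMod D) L
    rw [euler_congr (k := k) sq, euler_tensor_locFree_of_dim_zero hQ hdQ hL1, euler_eq_h0 hQ hdQ]
    simp
  change Curv2.euler k X ((tensorLeft' E).obj L) = _
  rw [key, euler_congr (k := k) (KFlatLib.tensSwap (Coh.structureModule X) E ≪≫ KFlatLib.tensUnitIso E),
    euler_congr (k := k) sw, euler_tensor_locFree_of_dim_zero hQ' hsQ' hE, h1]

end CurvLib
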