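import Groth.Agent.CurvLib.Finite0
import Groth.Agent.TwistLib.PullGen
import Groth.Agent.TwistLib.SpecSections
import Mathlib.AlgebraicGeometry.FunctionField

/-!
# Homomorphisms of invertible modules on an integral curve
-/

universe u
open CategoryTheory CategoryTheory.Limits AlgebraicGeometry TopologicalSpace Opposite

namespace CurvLib

open QCohLib DevissLib

variable {X : Scheme.{u}}

theorem isCoh_of_isInvertible {L : X.Modules} (hL : PicF.IsInvertible L) : Coh.IsCoh L := by
  refine ⟨TwistLib.isQCoh_of_isInvertible hL, ?_⟩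
  choose U hU e using hL
  exact QCohLib.isFT_of_cover L U (eq_top_iff.mpr fun x _ => Opens.mem_iSup.mpr ⟨x, hU x⟩) fun x =>
    QCohLib.isFT_of_iso (e x).some.symm (DevissLib.isCoh_structureModule _).2

theorem isInvertible_structureModule : PicF.IsInvertible (Coh.structureModule X) := fun x =>
  ⟨⊤, trivial, ⟨Scheme.Modules.restrictUnitIso _⟩⟩

theorem topologicalKrullDim_le_zero_of_lt {α : Type u} [TopologicalSpace α] [IrreducibleSpace α]
    (hd : topologicalKrullDim α = 1) {T : Set α} (hT : IsClosed T) (hne : T ≠ Set.univ) :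
    topologicalKrullDim T ≤ 0 := by
  refine iSup_le fun p => ?_
  by_contra h
  have hlen : 1 ≤ p.length := by
    by_contra h'
    apply h
    have : p.length = 0 := by omega
    simp [this]
  let c : IrreducibleCloseds T → IrreducibleCloseds α := fun Z =>
    ⟨Subtype.val '' (Z : Set T), Z.isIrreducible.image _ continuous_subtype_val.continuousOn,
      hT.isClosedEmbedding_subtypeVal.isClosedMap _ Z.isClosed⟩
  have hc : StrictMono c := fun a b hab => by
    refine lt_of_le_not_ge (Set.image_mono hab.le) fun h' => hab.not_ge ?_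
    exact fun x hx => by
      obtain ⟨y, hy, e⟩ := h' ⟨x, hx, rfl⟩
      rwa [← Subtype.ext e]
  let univ' : IrreducibleCloseds α :=
    ⟨Set.univ, IrreducibleSpace.isIrreducible_univ α, isClosed_univ⟩
  have hlast : (p.map c hc).last < univ' := by
    refine lt_of_le_not_ge (Set.subset_univ _) fun h' => hne (Set.eq_univ_of_univ_subset ?_)
    intro x hx
    obtain ⟨y, -, rfl⟩ := h' hx
    exact y.2
  let q := (p.map c hc).snoc univ' hlast
  have hq := (Order.LTSeries.length_le_krullDim q).trans hd.le
  have : q.length = p.length + 1 := rfl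
  rw [this] at hq
  have h2 : p.length + 1 ≤ 1 := by exact_mod_cast hq
  omega

section Integral

variable [IsIntegral X] {N L : X.Modules} (hN : PicF.IsInvertible N) (hL : PicF.IsInvertible L)

include hN hL in
/-- On an integral scheme a homomorphism of invertible modules is zero or injective on every stalk. -/
theorem stalk_dichotomy (φ : N ⟶ L) :
    (∀ x : X, ((St x).map φ).hom = 0) ∨ ∀ x : X, Function.Injective ((St x).map φ).hom := by
  have key : ∀ x : X, ((((St x).map φ).hom = 0) ↔ ((St (genericPoint X)).map φ).hom = 0) ∧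
      (((St x).map φ).hom = 0 ∨ Function.Injective ((St x).map φ).hom) := by
    intro x
    obtain ⟨U, e, hxU, he⟩ := TwistLib.exists_genOn hN x
    obtain ⟨U', e', hxU', he'⟩ := TwistLib.exists_genOn hL x
    let V := U ⊓ U'
    have hxV : x ∈ V := ⟨hxU, hxU'⟩
    let eV : Γ(N, V) := AmpleLib.res N inf_le_left e
    let eV' : Γ(L, V) := AmpleLib.res L inf_le_right e'
    obtain ⟨r, hr⟩ := (he' V inf_le_right).2 (φ.app V eV)
    dsimp only at hr
    have hval : ∀ (y : X) (hy : y ∈ V) (c : X.presheaf.stalk y),
        ((St y).map φ).hom (c • gm N y hy eV) =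
          (c * X.presheaf.germ V y hy r) • gm L y hy eV' := by
      intro y hy c
      rw [map_smul, gm_app φ y hy eV, ← hr, gm_smul, smul_smul]
    have hN' : ∀ (y : X) (hy : y ∈ V),
        Function.Bijective fun c : X.presheaf.stalk y => c • gm N y hy eV := fun y hy =>
      (AmpleLib.genAt_res inf_le_left e hy).mpr (he.genAt (show y ∈ U from hy.1))
    have hL' : ∀ (y : X) (hy : y ∈ V),
        Function.Bijective fun c : X.presheaf.stalk y => c • gm L y hy eV' := fun y hy =>
      (AmpleLib.genAt_res inf_le_right e' hy).mpr (he'.genAt (show y ∈ U' from hy.2))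
    have hz : ∀ (y : X) (hy : y ∈ V), ((St y).map φ).hom = 0 ↔ r = 0 := by
      intro y hy
      constructor
      · intro h
        have h1 := hval y hy 1
        rw [h, LinearMap.zero_apply, one_mul] at h1
        have h2 : X.presheaf.germ V y hy r = 0 :=
          (hL' y hy).1 (by dsimp only; rw [zero_smul]; exact h1.symm)
        exact germ_injective_of_isIntegral X y hy (h2.trans (map_zero _).symm)
      · intro h
        refine LinearMap.ext fun a => ?_
        obtain ⟨c, rfl⟩ := (hN' y hy).2 a
        rw [hval, h, map_zero, mul_zero, zero_smul]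
        rfl
    have hη : genericPoint X ∈ V := ((genericPoint_spec X).mem_open_set_iff V.isOpen).mpr
      ⟨x, trivial, hxV⟩
    refine ⟨(hz x hxV).trans (hz _ hη).symm, ?_⟩
    by_cases hr0 : r = 0
    · exact Or.inl ((hz x hxV).mpr hr0)
    · refine Or.inr ((injective_iff_map_eq_zero _).mpr fun a ha => ?_)
      obtain ⟨c, rfl⟩ := (hN' x hxV).2 a
      rw [hval] at ha
      have h2 : c * X.presheaf.germ V x hxV r = 0 :=
        (hL' x hxV).1 (by dsimp only; rw [zero_smul]; exact ha)
      rcases mul_eq_zero.mp h2 with h3 | h3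
      · rw [h3]; exact zero_smul _ _
      · exact absurd (germ_injective_of_isIntegral X x hxV (h3.trans (map_zero _).symm)) hr0
  by_cases h : ((St (genericPoint X)).map φ).hom = 0
  · exact Or.inl fun x => (key x).1.mpr h
  · exact Or.inr fun x => (key x).2.resolve_left fun h' => h ((key x).1.mp h')

theorem eq_zero_of_stalks {A B : X.Modules} (φ : A ⟶ B) (h : ∀ x : X, ((St x).map φ).hom = 0) :
    φ = 0 := by
  apply Scheme.Modules.hom_ext
  intro V
  refine ConcreteCategory.hom_ext _ _ fun t => ?_
  refine TopCat.Presheaf.section_ext ((toAbF X).obj B : TopCat.Sheaf AddCommGrpCat X.toTopCat) V _ _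
    fun x hx => ?_
  have h1 : gm B x hx (φ.app V t) = gm B x hx 0 := by
    rw [← gm_app φ x hx t, h x, gm_zero]
    rfl
  exact h1

include hN hL in
theorem mono_of_ne_zero {φ : N ⟶ L} (hφ : φ ≠ 0) : Mono φ := by
  rcases stalk_dichotomy hN hL φ with h | h
  · exact absurd (eq_zero_of_stalks φ h) hφ
  · exact Preadditive.mono_of_kernel_zero ((isZero_of_support_empty
      (Set.eq_empty_of_forall_notMem fun x => notMem_support_kernel φ x (h x))).eq_of_src _ _)

include hN hL in
theorem generic_notMem_support_cokernel {φ : N ⟶ L} (hφ : φ ≠ 0) :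
    genericPoint X ∉ CohB1.support (cokernel φ) := by
  set η := genericPoint X with hη
  refine notMem_support_cokernel φ η fun b => ?_
  obtain ⟨U, e, hxU, he⟩ := TwistLib.exists_genOn hN η
  obtain ⟨U', e', hxU', he'⟩ := TwistLib.exists_genOn hL η
  have hb := he'.genAt hxU'
  obtain ⟨c, hc⟩ := hb.2 (((St η).map φ).hom (gm N η hxU e))
  have hc0 : c ≠ 0 := fun h => by
    subst h
    dsimp only at hc
    rw [zero_smul] at hc
    rcases stalk_dichotomy hN hL φ with h | h
    · exact hφ (eq_zero_of_stalks φ h)
    · have h1 : gm N η hxU e = (0 : (St η).obj N) := h η (hc.symm.trans (map_zero _).symm)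
      have h2 : (1 : X.presheaf.stalk η) • gm N η hxU e = (0 : X.presheaf.stalk η) • gm N η hxU e := by
        rw [h1, smul_zero, smul_zero]
      exact one_ne_zero ((he.genAt hxU).1 h2)
  obtain ⟨d, hd⟩ := hb.2 b
  let F : Field (X.presheaf.stalk η) := (inferInstance : Field X.functionField)
  refine ⟨(d * c⁻¹) • gm N η hxU e, ?_⟩
  dsimp only at hc ⊢
  rw [map_smul, ← hc]
  refine (smul_smul _ _ _).trans ?_
  rw [mul_assoc, inv_mul_cancel₀ hc0, mul_one]
  exact hd

section Curve

variable {k : Type u} [Field k] [X.Over (Spec (CommRingCat.of k))]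
  [IsProper (X ↘ Spec (CommRingCat.of k))] (hdim : topologicalKrullDim X = 1)

include k hN hL hdim in
theorem cokernel_data {φ : N ⟶ L} (hφ : φ ≠ 0) : Coh.IsCoh (cokernel φ) ∧
    topologicalKrullDim (CohB1.support (cokernel φ)) ≤ 0 := by
  have hQ := QCohLib.isCoh_cokernel φ (isCoh_of_isInvertible hN).1 (isCoh_of_isInvertible hL)
  exact ⟨hQ, topologicalKrullDim_le_zero_of_lt hdim (isClosed_support _ hQ.2) fun h =>
    generic_notMem_support_cokernel hN hL hφ (h ▸ Set.mem_univ _)⟩

include hN hL hdim in
theorem euler_sub_eq_h0 {φ : N ⟶ L} (hφ : φ ≠ 0) :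
    Curv2.euler k X L - Curv2.euler k X N =
      (Module.finrank k (Coh.HH X (cokernel φ) 0) : ℤ) := by
  obtain ⟨hQ, hd⟩ := cokernel_data (k := k) hN hL hdim hφ
  haveI := mono_of_ne_zero hN hL hφ
  let S : ShortComplex X.Modules := ShortComplex.mk φ (cokernel.π φ) (cokernel.condition φ)
  have hS : S.ShortExact :=
    { exact := ShortComplex.exact_of_g_is_cokernel _ (cokernelIsCokernel φ)
      mono_f := inferInstanceAs (Mono φ)
      epi_g := inferInstanceAs (Epi (cokernel.π φ)) }
  have h := euler_add_of_isCoh (k := k) hS (isCoh_of_isInvertible hN) (isCoh_of_isInvertible hL) hQ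
  rw [← euler_eq_h0 (k := k) hQ hd]
  change Curv2.euler k X L = Curv2.euler k X N + Curv2.euler k X (cokernel φ) at h
  linarith

include hN hL hdim in
theorem euler_le {φ : N ⟶ L} (hφ : φ ≠ 0) : Curv2.euler k X N ≤ Curv2.euler k X L := by
  have := euler_sub_eq_h0 (k := k) hN hL hdim hφ
  omega

include hN hL hdim in
theorem isIso_of_euler_le {φ : N ⟶ L} (hφ : φ ≠ 0)
    (h : Curv2.euler k X L ≤ Curv2.euler k X N) : IsIso φ := by
  obtain ⟨hQ, hd⟩ := cokernel_data (k := k) hN hL hdim hφ
  have := euler_sub_eq_h0 (k := k) hN hL hdim hφ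
  haveI := mono_of_ne_zero hN hL hφ
  have : Epi φ := Abelian.epi_of_cokernel_π_eq_zero φ
    ((isZero_of_h0 (k := k) hQ hd (by omega)).eq_of_tgt _ _)
  exact isIso_of_mono_of_epi φ

end Curve

end Integral

theorem genLocus_eq_top_of_isIso {L : X.Modules} (s : Coh.structureModule X ⟶ L) [IsIso s] :
    CohB1.genLocus L s = ⊤ :=
  top_le_iff.mp (le_sSup (show (⊤ : X.Opens) ∈ {U : X.Opens |
    IsIso ((Scheme.Modules.restrictFunctor U.ι).map s)} from inferInstanceAs (IsIso _)))

end CurvLib
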